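import Cfsg.Agent.Lib.J4Coset48.Proj

/-!
# The involutions of the normaliser
-/

set_option autoImplicit false
set_option linter.unusedSectionVars false

namespace Cfsg.Agent.Lib.J4Coset48

open Cfsg Cfsg.Agent.Lib.Golay Cfsg.Agent.Lib.Computation
open Cfsg.Agent.Lib.J4Order Cfsg.Agent.Lib.J4Order.AtCalc Cfsg.Agent.Lib.J4Order.AtData
open Cfsg.Agent.Lib.LargeExtraspecial.Basic Cfsg.Agent.Lib.J4Local

variable {G : Type*} [Group G] [Finite G] {z : G}

theorem stdA_sq : el (std 1) * el (std 1) = 1 := by
  rw [← el_mul (NModel.good_std (by norm_num)) (NModel.good_std (by norm_num)),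
    show mulP 24 5 (std 1) (std 1) = oneCode by decide +kernel, el_one]

theorem stdB_sq : el (std 2) * el (std 2) = 1 := by
  rw [← el_mul (NModel.good_std (by norm_num)) (NModel.good_std (by norm_num)),
    show mulP 24 5 (std 2) (std 2) = oneCode by decide +kernel, el_one]

theorem lens_ok : ∀ o : Bool,
    (zStd o 0).length = 1771 ∧ (tStd o 0).length = 276 ∧ (zStd o 1).length = 16 ∧
    (tStd o 1).length = 112 ∧ (zStd o 2).length = 32 ∧ (tStd o 2).length = 32 := by
  decide +kernel

theorem std_codes : stdA = M24Classes.Data.rA ∧ stdB = M24Classes.Data.rB := by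
  decide +kernel

section
variable (M : NModel z)

/-- A count over all of the complement from its values on the classes of involutions. -/
theorem census_of {P : G → Prop} (hP : ∀ h v : G, P (h * v * h⁻¹) ↔ P v)
    (hinv : ∀ y, P y → y * y = 1) {n0 nA nB : ℕ} (h0 : cnt M P (el (std 0)) = n0)
    (hA : cnt M P (el (std 1)) = nA) (hB : cnt M P (el (std 2)) = nB) :
    {y : G | y ∈ Subgroup.normalizer (M.V : Set G) ∧ P y}.ncard =
      n0 + 11385 * nA + 31878 * nB := by
  classical
  letI : Fintype ↥M24 := Fintype.ofFinite _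
  rw [ncard_eq_sum M P]
  set A : Finset ↥M24 := Finset.univ.filter fun σ => IsConj (el (std 1)) σ with hAdef
  set B : Finset ↥M24 := Finset.univ.filter fun σ => IsConj (el (std 2)) σ with hBdef
  have gA := NModel.good_std (k := 1) (by norm_num)
  have gB := NModel.good_std (k := 2) (by norm_num)
  have hz : ∀ σ, σ ∉ ({1} ∪ A ∪ B : Finset ↥M24) → cnt M P σ = 0 := by
    intro σ hσ
    simp only [Finset.mem_union, Finset.mem_singleton, not_or, hAdef, hBdef, Finset.mem_filter,
      Finset.mem_univ, true_and] at hσ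
    rw [cnt, Finset.card_eq_zero, Finset.filter_eq_empty_iff]
    intro a ha h
    have h2 := ev_sq_perm M (Finset.mem_range.mp ha) (hinv _ h)
    obtain ⟨m, hm, hc⟩ := M24Classes.Classes.invol_conj σ.2 (fun e => hσ.1.1 (Subtype.ext e))
      (congrArg Subtype.val h2)
    rcases hc with hc | hc
    · exact hσ.1.2 (isConj_iff.mpr ⟨⟨m, hm⟩, Subtype.ext (by
        rw [Subgroup.coe_mul, Subgroup.coe_mul, Subgroup.coe_inv, el_coe gA.2, hc]
        rw [show std 1 = M24Classes.Data.rA from std_codes.1])⟩)
    · exact hσ.2 (isConj_iff.mpr ⟨⟨m, hm⟩, Subtype.ext (by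
        rw [Subgroup.coe_mul, Subgroup.coe_mul, Subgroup.coe_inv, el_coe gB.2, hc]
        rw [show std 2 = M24Classes.Data.rB from std_codes.2])⟩)
  rw [← Finset.sum_subset (Finset.subset_univ ({1} ∪ A ∪ B)) fun σ _ hσ => hz σ hσ]
  have htot := AtChecks.total_ok
  simp only [totalOk, Bool.and_eq_true, Nat.beq_eq] at htot
  have h1A : (1 : ↥M24) ∉ A := fun h => el_ne_one gA htot.2
    (isConj_one_right.mp (IsConj.symm (Finset.mem_filter.mp h).2))
  have h1B : (1 : ↥M24) ∉ B := fun h => el_ne_one gB htot.1.2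
    (isConj_one_right.mp (IsConj.symm (Finset.mem_filter.mp h).2))
  have hAB : Disjoint A B := by
    refine Finset.disjoint_left.mpr fun σ ha hb => ?_
    obtain ⟨g, hg⟩ := isConj_iff.mp ((Finset.mem_filter.mp ha).2.trans (Finset.mem_filter.mp hb).2.symm)
    have := congrArg (fun σ : ↥M24 => M24Classes.Classes.fixCnt (σ : Equiv.Perm GolayPt)) hg
    simp only [Subgroup.coe_mul, Subgroup.coe_inv, M24Classes.Classes.fixCnt_conj, el_coe gA.2,
      el_coe gB.2] at this
    rw [show std 1 = M24Classes.Data.rA from std_codes.1,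
      show std 2 = M24Classes.Data.rB from std_codes.2, M24Classes.Classes.fixCnt_rA,
      M24Classes.Classes.fixCnt_rB] at this
    exact absurd this (by norm_num)
  rw [Finset.sum_union (by
      rw [Finset.disjoint_union_left]
      exact ⟨Finset.disjoint_singleton_left.mpr h1B, hAB⟩),
    Finset.sum_union (Finset.disjoint_singleton_left.mpr h1A), Finset.sum_singleton]
  have e0 : cnt M P 1 = n0 := by rw [← h0, std, el_one]
  have cA : A.card = 11385 := by
    have h := class_card gA (n := 21504)
      (by rw [show std 1 = M24Classes.Data.rA from std_codes.1]; exact M24Classes.Centralizers.card_centA)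
    rw [Set.ncard_eq_toFinset_card', Set.toFinset_ofPred] at h
    exact Nat.eq_of_mul_eq_mul_right (by norm_num : 0 < 21504) (h.trans (by norm_num))
  have cB : B.card = 31878 := by
    have h := class_card gB (n := 7680)
      (by rw [show std 2 = M24Classes.Data.rB from std_codes.2]; exact M24Classes.Centralizers.card_centB)
    rw [Set.ncard_eq_toFinset_card', Set.toFinset_ofPred] at h
    exact Nat.eq_of_mul_eq_mul_right (by norm_num : 0 < 7680) (h.trans (by norm_num))
  rw [e0, Finset.sum_const_nat (m := nA), Finset.sum_const_nat (m := nB), cA, cB]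
  · intro σ hσ
    obtain ⟨g, rfl⟩ := isConj_iff.mp (Finset.mem_filter.mp hσ).2
    rw [cnt_conj M hP]
    exact hB
  · intro σ hσ
    obtain ⟨g, rfl⟩ := isConj_iff.mp (Finset.mem_filter.mp hσ).2
    rw [cnt_conj M hP]
    exact hA

theorem cnt_of_list {P : G → Prop} {σ : ↥M24} {l : List ℕ} (hn : l.Nodup)
    (h : ∀ a, a ∈ l ↔ a < 2048 ∧ P (M.ev a σ)) : cnt M P σ = l.length := by
  classical
  rw [← List.toFinset_card_of_nodup hn]
  exact congrArg Finset.card (Finset.ext fun a => by
    rw [Finset.mem_filter, Finset.mem_range, List.mem_toFinset, h])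

theorem census_z {o : Bool} (F : Fus M o) :
    {y : G | y ∈ Subgroup.normalizer (M.V : Set G) ∧ IsConj z y}.ncard = 1204027 := by
  have key : ∀ k < 3, cnt M (IsConj z) (el (std k)) = (zStd o k).length := fun k hk =>
    cnt_of_list M (M.lists_std o F hk).nz (M.lists_std o F hk).memz
  obtain ⟨l0, -, l1, -, l2, -⟩ := lens_ok o
  exact (census_of M (fun h v => isConj_conj) (fun y hy => sq_of_isConj F.ord_z hy)
    ((key 0 (by norm_num)).trans l0) ((key 1 (by norm_num)).trans l1)
    ((key 2 (by norm_num)).trans l2)).trans (by norm_num)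

theorem census_t {o : Bool} (F : Fus M o) :
    {y : G | y ∈ Subgroup.normalizer (M.V : Set G) ∧ orderOf y = 2 ∧ ¬ IsConj z y}.ncard = 2295492 := by
  have key : ∀ k < 3, cnt M (fun y => orderOf y = 2 ∧ ¬ IsConj z y) (el (std k)) =
      (tStd o k).length := fun k hk =>
    cnt_of_list M (M.lists_std o F hk).nt fun a => (M.lists_std o F hk).memt a
  obtain ⟨-, l0, -, l1, -, l2⟩ := lens_ok o
  exact (census_of M (fun h v => by rw [orderOf_conjugate, isConj_conj])
    (fun y hy => by rw [← pow_two, ← hy.1, pow_orderOf_eq_one])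
    ((key 0 (by norm_num)).trans l0) ((key 1 (by norm_num)).trans l1)
    ((key 2 (by norm_num)).trans l2)).trans (by norm_num)

theorem cent_std {o : Bool} (F : Fus M o) {k m : ℕ} (hk : k < 3) {y : ℕ} (hy : y < 2048)
    (hn : (zStd o k).length + (tStd o k).length = 2 ^ m) (hne : el (std k) ≠ 1) {n : ℕ}
    (hcard : Nat.card ↥(M24Classes.Centralizers.cent (gperm (std k))) = n) :
    Nat.card ↥(Subgroup.normalizer (M.V : Set G) ⊓ cz (M.ev y (el (std k)))) ∣ 2 ^ m * n := by
  classical
  set x := M.ev y (el (std k))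
  set H := Subgroup.normalizer (M.V : Set G) ⊓ cz x
  have hc := NModel.good_std hk
  have hL := M.lists_std o F hk
  rw [card_img M (H := H) inf_le_left]
  refine Nat.mul_dvd_mul ?_ ?_
  · have h2 : IsPGroup 2 ↥(M.V ⊓ H) := (IsPGroup.of_card (card_eleven M)).to_le inf_le_left
    haveI := Fact.mk Nat.prime_two
    obtain ⟨j, hj⟩ := h2.exists_card_eq
    rw [hj]
    refine Nat.pow_dvd_pow _ ((Nat.pow_le_pow_iff_right (show 1 < 2 by norm_num)).mp ?_)
    rw [← hj, ← hn]
    have hf : ∀ v : ↥(M.V ⊓ H), ∃ a, a ∈ (zStd o k ++ tStd o k).toFinset ∧ (v : G) = M.ψ a := by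
      rintro ⟨v, hv, -, hvx⟩
      obtain ⟨a, ha, rfl⟩ := M.frame.surj v hv
      refine ⟨a, ?_, rfl⟩
      have h := (mem_cz.mp hvx).eq
      have hfix : act (std k) a = a := by
        have h' : M.ψ a * x * (M.ψ a)⁻¹ = x := by rw [h]; group
        rw [M.conj_ev_psi hy ha hc] at h'
        have e := (M.ev_inj (Nat.xor_lt_two_pow (n := 11) (Nat.xor_lt_two_pow (n := 11) ha hy)
          (act_lt _ _)) hy h').1
        have e2 : a ^^^ act (std k) a = 0 := by
          have := congrArg (· ^^^ y) e
          simp only [Nat.xor_self] at this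
          rwa [Nat.xor_comm a y, Nat.xor_assoc y, Nat.xor_comm _ y, ← Nat.xor_assoc, Nat.xor_self,
            Nat.zero_xor] at this
        exact (xor_eq_zero_iff.mp e2).symm
      rw [List.mem_toFinset, List.mem_append, hL.memz, hL.memt]
      by_cases hz : IsConj z (M.ev a (el (std k)))
      · exact Or.inl ⟨ha, hz⟩
      · refine Or.inr ⟨ha, ?_, hz⟩
        have h2 : el (std k) * el (std k) = 1 := ev_sq_perm M zero_lt_2048 ((M.ev_sq_iff zero_lt_2048 hc
          (by interval_cases k <;> [exact absurd el_one hne; exact stdA_sq; exact stdB_sq])).mpr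
          (act_zero _))
        haveI := Fact.mk Nat.prime_two
        refine orderOf_eq_prime (by rw [pow_two]; exact (M.ev_sq_iff ha hc h2).mpr hfix) fun e => hne ?_
        exact (M.ev_inj ha zero_lt_2048 (τ := 1) (by rw [e, M.ev_one_eq, M.ψ_zero])).2
    choose f hf1 hf2 using hf
    calc Nat.card ↥(M.V ⊓ H) ≤ Nat.card ↥(zStd o k ++ tStd o k).toFinset :=
          Nat.card_le_card_of_injective (fun v => ⟨f v, hf1 v⟩) fun v w e =>
            Subtype.ext ((hf2 v).trans ((congrArg (fun a : ↥(zStd o k ++ tStd o k).toFinset => M.ψ a.1) e).trans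
              (hf2 w).symm))
      _ ≤ (zStd o k).length + (tStd o k).length := by
          rw [Nat.card_eq_finsetCard, ← List.length_append]
          exact List.toFinset_card_le _
  · have hle : img M H ≤ Subgroup.centralizer ({el (std k)} : Set ↥M24) := by
      rintro _ ⟨⟨g, hg⟩, hgH, rfl⟩
      refine Subgroup.mem_centralizer_singleton_iff.mpr ?_
      have h := (mem_cz.mp (Subgroup.mem_subgroupOf.mp hgH).2).eq
      have := congrArg (proj M) (show (⟨g, hg⟩ : ↥(Subgroup.normalizer (M.V : Set G))) *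
        ⟨x, M.ev_mem _ _⟩ = ⟨x, M.ev_mem _ _⟩ * ⟨g, hg⟩ from Subtype.ext h)
      rwa [map_mul, map_mul, proj_ev M hy] at this
    refine (Subgroup.card_dvd_of_le hle).trans (dvd_of_eq ?_)
    rw [← hcard]
    refine Nat.card_congr ⟨fun g => ⟨g.1.1, g.1.2, Subgroup.mem_centralizer_singleton_iff.mpr ?_⟩,
      fun g => ⟨⟨g.1, g.2.1⟩, Subgroup.mem_centralizer_singleton_iff.mpr (Subtype.ext ?_)⟩,
      fun _ => rfl, fun _ => rfl⟩
    · have := congrArg Subtype.val (Subgroup.mem_centralizer_singleton_iff.mp g.2)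
      rwa [Subgroup.coe_mul, Subgroup.coe_mul, el_coe hc.2] at this
    · rw [Subgroup.coe_mul, Subgroup.coe_mul, el_coe hc.2]
      exact Subgroup.mem_centralizer_singleton_iff.mp g.2.2

theorem cz_conj (m x : G) :
    cz (m * x * m⁻¹) = (cz x).map (MulAut.conj m).toMonoidHom := by
  ext g
  rw [Subgroup.mem_map_equiv, MulAut.conj_symm_apply, mem_cz, mem_cz]
  constructor
  · intro h
    simpa [mul_assoc] using h.map (MulAut.conj m⁻¹)
  · intro h
    simpa [mul_assoc] using h.map (MulAut.conj m)

/-- The centralisers in the normaliser of the fused involutions outside the `2^11`. -/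
theorem cent_out {o : Bool} (F : Fus M o) {u : G} (hu : u ∈ Subgroup.normalizer (M.V : Set G))
    (hV : u ∉ M.V) (hz : IsConj z u) :
    Nat.card ↥(Subgroup.normalizer (M.V : Set G) ⊓ cz u) ∣ 2752512 ∨
      Nat.card ↥(Subgroup.normalizer (M.V : Set G) ⊓ cz u) ∣ 491520 := by
  obtain ⟨m, hm, x, hx, rfl⟩ := M.invol_cases hu (sq_of_isConj F.ord_z hz) hV
  have hN : Subgroup.normalizer (M.V : Set G) =
      (Subgroup.normalizer (M.V : Set G)).map (MulAut.conj m).toMonoidHom := by
    ext g
    rw [Subgroup.mem_map_equiv, MulAut.conj_symm_apply]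
    exact ⟨fun h => mul_mem (mul_mem (inv_mem hm) h) hm,
      fun h => by simpa [mul_assoc] using mul_mem (mul_mem hm h) (inv_mem hm)⟩
  rw [cz_conj, hN, ← Subgroup.map_inf_eq _ _ _ (MulAut.conj m).injective,
    Subgroup.card_map_of_injective (MulAut.conj m).injective]
  obtain ⟨-, -, l1, l1', l2, l2'⟩ := lens_ok o
  have htot := AtChecks.total_ok
  simp only [totalOk, Bool.and_eq_true, Nat.beq_eq] at htot
  have nA : el (std 1) ≠ 1 := el_ne_one (NModel.good_std (by norm_num)) htot.2
  have nB : el (std 2) ≠ 1 := el_ne_one (NModel.good_std (by norm_num)) htot.1.2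
  have cA : Nat.card ↥(M24Classes.Centralizers.cent (gperm (std 1))) = 21504 := by
    rw [show std 1 = M24Classes.Data.rA from std_codes.1]; exact M24Classes.Centralizers.card_centA
  have cB : Nat.card ↥(M24Classes.Centralizers.cent (gperm (std 2))) = 7680 := by
    rw [show std 2 = M24Classes.Data.rB from std_codes.2]; exact M24Classes.Centralizers.card_centB
  have hy : outA < 2048 ∧ outB < 2048 := by decide +kernel
  rcases hx with rfl | rfl | rfl | rfl
  · exact Or.inl (cent_std M F (k := 1) (m := 7) (by norm_num) zero_lt_2048 (by rw [l1, l1']; norm_num) nA cA)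
  · exact Or.inl (cent_std M F (k := 1) (m := 7) (by norm_num) hy.1 (by rw [l1, l1']; norm_num) nA cA)
  · exact Or.inr (cent_std M F (k := 2) (m := 6) (by norm_num) zero_lt_2048 (by rw [l2, l2']; norm_num) nB cB)
  · exact Or.inr (cent_std M F (k := 2) (m := 6) (by norm_num) hy.2 (by rw [l2, l2']; norm_num) nB cB)

end

end Cfsg.Agent.Lib.J4Coset48
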