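import Cfsg.Agent.Lib.J4Coset48.Power
import Cfsg.Agent.Lib.J4Five.FactsProof

/-!
# The cosets fixed by an element of order five
-/

set_option autoImplicit false
set_option linter.unusedSectionVars false

namespace Cfsg.Agent.Lib.J4Coset48

open Cfsg Cfsg.Agent.Lib.LargeExtraspecial.Basic Cfsg.Agent.Lib.J4Local Cfsg.Agent.Lib.J4Big
open Cfsg.Agent.Lib.J4Order
open scoped Classical

variable {G : Type*} [Group G] [Finite G] {z p : G}

/-- Orbit and stabiliser for a subgroup. -/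
theorem orbit_card {N : Subgroup G} (K : Subgroup G) (q : G ⧸ N) :
    (MulAction.orbit ↥K q).ncard * Nat.card ↥(K ⊓ MulAction.stabilizer G q) = Nat.card ↥K := by
  have h := MulAction.index_stabilizer ↥K q
  have e : Nat.card ↥(MulAction.stabilizer ↥K q) = Nat.card ↥(K ⊓ MulAction.stabilizer G q) :=
    Nat.card_congr ⟨fun n => ⟨n.1.1, n.1.2, n.2⟩, fun x => ⟨⟨x.1, x.2.1⟩, x.2.2⟩,
      fun _ => rfl, fun _ => rfl⟩
  rw [← h, ← e, mul_comm]
  exact Subgroup.card_mul_index _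

theorem divisors_five : ∀ d ∈ Nat.divisors 240, 5 ∣ d → d ∈ d240 := by decide +kernel

namespace Ctx

variable (C : Ctx z p) [IsSimpleGroup G]

theorem five_norm_inside {a : ↥M24} (hxo : orderOf (C.M.κ a) = 5) :
    Nat.card ↥(N₁ C.S ⊓
      Subgroup.normalizer ((Subgroup.zpowers (C.M.κ a) : Subgroup G) : Set G)) = 1920 ∧
    Set.ncard {v | v ∈ C.M.V ⊓ cz (C.M.κ a) ∧ IsConj z v} = 1 := by
  set x := C.M.κ a
  obtain ⟨h8, h1, -, -⟩ := J4Five.fixed_space C.S J4Five.fiveFacts C.inputs hxo C.M.elem_V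
    C.M.card_V (C.M.mem_norm a)
  obtain ⟨hb, hn⟩ := J4Five.card_norm_inside (V := C.M.V) (C := Subgroup.normalizer (C.M.V : Set G))
    Subgroup.le_normalizer (card_eleven C.M) (ψ := proj C.M) (proj_surjective C.M)
    (fun d => proj_eq_one C.M) (C.M.mem_norm a) hxo
  rw [J4Five.fiveFacts.norm24 _ hb, h8, C.normEq] at hn
  exact ⟨hn, h1⟩

theorem five_fix {a : ↥M24} (hxo : orderOf (C.M.κ a) = 5) :
    {q : G ⧸ N₁ C.S | C.M.κ a • q = q}.ncard = 14 := by
  haveI := Fact.mk Nat.prime_five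
  have h := C.fix_prime (C.κ_mem a) hxo (by norm_num)
  rw [C.five_norm _ hxo, (C.five_norm_inside hxo).1] at h
  omega

theorem five_rest (qA qB : G ⧸ N₁ C.S) {a : ↥M24} (hxo : orderOf (C.M.κ a) = 5) :
    {q : G ⧸ N₁ C.S | C.M.κ a • q = q ∧ q ∈ C.rest qA qB}.ncard ≤ 13 := by
  have h := C.five_fix hxo
  have hsub : {q : G ⧸ N₁ C.S | C.M.κ a • q = q ∧ q ∈ C.rest qA qB} ⊆
      {q : G ⧸ N₁ C.S | C.M.κ a • q = q} \ {base C.S} := fun q hq => ⟨hq.1, hq.2.1⟩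
  have := Set.ncard_le_ncard hsub
  rw [Set.ncard_sdiff_singleton_of_mem (show base C.S ∈ {q : G ⧸ N₁ C.S | C.M.κ a • q = q} from
    mk_one_smul C.S (C.κ_mem a)), h] at this
  exact this

variable (hG : ¬ IsMulCommutative G) (hJ : Cfsg.IsOfJankoFourTypeAt z)
  {qA qB : G ⧸ N₁ C.S} (H : Neigh C.S qA qB) {q : G ⧸ N₁ C.S} (hq : q ∈ C.rest qA qB)
include hG hJ H hq

theorem five_kind {a : ↥M24} (hxo : orderOf (C.M.κ a) = 5) (h5 : 5 ∣ (C.kind q).2) :
    (C.kind q).1 % 4 ≤ 1 ∧ ∃ o ∈ fiveOpts (C.kind q),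
      o ≤ {r : G ⧸ N₁ C.S | C.M.κ a • r = r ∧ r ∈ norb (N₁ C.S) q}.ncard := by
  haveI := Fact.mk Nat.prime_five
  set x := C.M.κ a
  have hxN : x ∈ N₁ C.S := C.κ_mem a
  obtain ⟨q', hq'o, hqx⟩ := C.exists_fixed hxN hxo (by norm_num) q
    (by rw [C.card_stab]; exact h5.trans (dvd_mul_left _ _))
  have hq' := C.norb_subset hq hq'o
  rw [← C.kind_norb hq'o] at h5 ⊢
  set Hh := cstab (N₁ C.S) q' with hHh
  have hxH : x ∈ Hh := ⟨hxN, hqx⟩
  set W := img C.M Hh with hW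
  set T := tPart C.S q' with hT
  let ψ : ↥Hh →* ↥W := ((proj C.M).comp (Subgroup.inclusion (C.cstab_le q'))).codRestrict W
    fun d => ⟨⟨d.1, C.cstab_le q' d.2⟩, d.2, rfl⟩
  have hψs : Function.Surjective ψ := by
    rintro ⟨_, ⟨g, hgN⟩, hg, rfl⟩
    exact ⟨⟨g, hg⟩, rfl⟩
  have hψk : ∀ d, ψ d = 1 ↔ (d : G) ∈ T := fun d => by
    rw [← Subtype.coe_inj]
    show proj C.M ⟨d.1, C.cstab_le q' d.2⟩ = 1 ↔ _
    rw [proj_eq_one]
    show (d : G) ∈ C.M.V ↔ _
    rw [C.eqV]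
    exact ⟨fun h => Subgroup.mem_inf.mpr ⟨h, d.2⟩, fun h => h.1⟩
  obtain ⟨hb, hn⟩ := J4Five.card_norm_inside (V := T) (C := Hh) inf_le_right (C.card_tPart q')
    hψs hψk hxH hxo
  set P := Subgroup.zpowers (ψ ⟨x, hxH⟩)
  set d := Nat.card ↥(Subgroup.normalizer (P : Set ↥W)) with hd
  set c := Nat.card ↥(T ⊓ cz x) with hc
  have hP : Nat.card ↥P = 5 := (Nat.card_zpowers _).trans hb
  obtain ⟨hd5, hmod⟩ := M24Norm.norm_modEq
    (fun h => M24Norm.not_sq (p := 5) (by simp) (h.trans (Subgroup.card_subgroup_dvd_card W))) hP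
  have hdm : d ∣ (C.kind q').2 := Subgroup.card_subgroup_dvd_card _
  have hd240 : d ∣ 240 := by
    rw [← J4Five.fiveFacts.norm24 (ψ ⟨x, hxH⟩ : ↥M24)
      ((orderOf_injective W.subtype Subtype.coe_injective _).trans hb), hd,
      ← Subgroup.card_map_of_injective W.subtype_injective]
    refine Subgroup.card_dvd_of_le (le_trans (Subgroup.le_normalizer_map _) ?_)
    rw [MonoidHom.map_zpowers]
    exact le_rfl
  -- the fixed part of the vectors
  have hc2 : c ≤ 2 := by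
    have h1 := (C.five_norm_inside hxo).2
    have hsub : (T ⊓ cz x : Subgroup G) ≤ C.M.V ⊓ cz x := inf_le_inf_right _ (by
      rw [C.eqV]; exact inf_le_left)
    have hs : ((T ⊓ cz x : Subgroup G) : Set G) \ {1} ⊆ {v | v ∈ C.M.V ⊓ cz x ∧ IsConj z v} :=
      fun v hv => ⟨hsub hv.1, C.fused_of_mem hG hJ H hq' hv.1.1 hv.2⟩
    have h2 := Set.ncard_le_ncard hs
    rw [Set.ncard_sdiff_singleton_of_mem (one_mem (T ⊓ cz x) : (1 : G) ∈ ((T ⊓ cz x : Subgroup G) : Set G)),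
      ← Nat.card_coe_set_eq ((T ⊓ cz x : Subgroup G) : Set G), SetLike.coe_sort_coe, ← hc, h1] at h2
    omega
  have hcmod : 2 ^ (C.kind q').1 % 5 = c % 5 := by
    have h := J4Seven.card_modEq (n := 5) (x := x) (by rw [← hxo, pow_orderOf_eq_one])
      (fun v => v ∈ T) fun v hv => Subgroup.mem_inf.mpr
        ⟨(Subgroup.mem_normalizer_iff.mp hxN v).mp hv.1,
          mul_mem (mul_mem hxH hv.2) (inv_mem hxH)⟩
    have e : Nat.card {v // v ∈ T ∧ Commute v x} = c :=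
      Nat.card_congr (Equiv.subtypeEquivRight fun v => ⟨fun h => Subgroup.mem_inf.mpr ⟨h.1, mem_cz.mpr h.2⟩,
        fun h => ⟨h.1, mem_cz.mp h.2⟩⟩)
    rw [e] at h
    rw [← C.card_tPart]
    exact h
  have hjc : (C.kind q').1 % 4 ≤ 1 ∧ c = cFix (C.kind q').1 := by
    have hpos : 0 < c := Nat.card_pos
    rw [← Nat.div_add_mod (C.kind q').1 4, pow_add, pow_mul, Nat.mul_mod, Nat.pow_mod] at hcmod
    norm_num at hcmod
    have := Nat.mod_lt (C.kind q').1 (show 0 < 4 by norm_num)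
    unfold cFix
    interval_cases hr : (C.kind q').1 % 4 <;> interval_cases c <;>
      first | (norm_num at hcmod; done) | norm_num
  refine ⟨hjc.1, 1920 / (cFix (C.kind q').1 * d), List.mem_map.mpr ⟨d, List.mem_filter.mpr
    ⟨divisors_five d (Nat.mem_divisors.mpr ⟨hd240, by norm_num⟩) hd5, ?_⟩, rfl⟩, ?_⟩
  · simp only [Bool.and_eq_true, Nat.beq_eq]
    exact ⟨Nat.dvd_iff_mod_eq_zero.mp hdm, hmod⟩
  -- the orbit of the normaliser on the fixed coset
  set K := N₁ C.S ⊓ Subgroup.normalizer ((Subgroup.zpowers x : Subgroup G) : Set G) with hK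
  have horb := orbit_card K q'
  have e : K ⊓ MulAction.stabilizer G q' =
      Hh ⊓ Subgroup.normalizer ((Subgroup.zpowers x : Subgroup G) : Set G) := by
    rw [hK, hHh, cstab, inf_right_comm]
  rw [e, hn, (C.five_norm_inside hxo).1, hjc.2] at horb
  rw [← horb, mul_comm d, Nat.mul_div_cancel _ (by
    rw [← hjc.2]; exact Nat.mul_pos Nat.card_pos Nat.card_pos)]
  refine Set.ncard_le_ncard ?_
  rintro _ ⟨⟨n, hn'⟩, rfl⟩
  refine ⟨?_, ?_⟩
  · show x • n • q' = n • q'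
    obtain ⟨i, hi⟩ := (Subgroup.mem_normalizer_iff''.mp hn'.2 x).mp (Subgroup.mem_zpowers x)
    have hfix : (n⁻¹ * x * n) • q' = q' := by
      rw [show n⁻¹ * x * n = x ^ i from hi.symm]
      exact (zpow_mem (MulAction.mem_stabilizer_iff.mpr hqx) i : x ^ i ∈ MulAction.stabilizer G q')
    rw [mul_smul, mul_smul, inv_smul_eq_iff] at hfix
    exact hfix
  · show n • q' ∈ norb (N₁ C.S) q
    obtain ⟨m, hm, rfl⟩ := mem_norb.mp hq'o
    exact mem_norb.mpr ⟨n * m, mul_mem hn'.1 hm, mul_smul _ _ _⟩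

end Ctx

end Cfsg.Agent.Lib.J4Coset48
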