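import Cfsg.Agent.Lib.J4Five.Orbits
import Mathlib.GroupTheory.Sylow

/-!
# Fixed cosets of elements and of Sylow subgroups
-/

set_option autoImplicit false
set_option linter.unusedSectionVars false

namespace Cfsg.Agent.Lib.J4Coset48

open Cfsg.Agent.Lib.LargeExtraspecial.Basic Cfsg.Agent.Lib.J4Local

variable {G : Type*} [Group G] [Finite G] {N : Subgroup G}

/-- The stabiliser of a coset inside the subgroup. -/
def cstab (N : Subgroup G) (q : G ⧸ N) : Subgroup G := N ⊓ MulAction.stabilizer G q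

theorem mem_cstab {q : G ⧸ N} {x : G} : x ∈ cstab N q ↔ x ∈ N ∧ x • q = q := Iff.rfl

theorem smul_mk (x g : G) : x • (QuotientGroup.mk g : G ⧸ N) = QuotientGroup.mk g ↔ g⁻¹ * x * g ∈ N := by
  change QuotientGroup.mk (x * g) = QuotientGroup.mk g ↔ _
  rw [QuotientGroup.eq, ← inv_mem_iff]
  simp [mul_assoc]

/-- The orbit under the subgroup. -/
def norb (N : Subgroup G) (q : G ⧸ N) : Set (G ⧸ N) := MulAction.orbit ↥N q

theorem mem_norb {q r : G ⧸ N} : r ∈ norb N q ↔ ∃ n ∈ N, n • q = r :=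
  ⟨fun ⟨n, hn⟩ => ⟨n, n.2, hn⟩, fun ⟨n, hn, h⟩ => ⟨⟨n, hn⟩, h⟩⟩

theorem self_mem_norb (q : G ⧸ N) : q ∈ norb N q := MulAction.mem_orbit_self q

theorem norb_eq {q r : G ⧸ N} (h : r ∈ norb N q) : norb N r = norb N q :=
  MulAction.orbit_eq_iff.mpr h

theorem norb_card (q : G ⧸ N) : (norb N q).ncard * Nat.card ↥(cstab N q) = Nat.card ↥N := by
  classical
  have h := MulAction.index_stabilizer ↥N q
  have e : Nat.card ↥(MulAction.stabilizer ↥N q) = Nat.card ↥(cstab N q) :=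
    Nat.card_congr ⟨fun n => ⟨n.1.1, n.1.2, n.2⟩, fun x => ⟨⟨x.1, x.2.1⟩, x.2.2⟩,
      fun _ => rfl, fun _ => rfl⟩
  rw [norb, ← h, ← e, mul_comm]
  exact Subgroup.card_mul_index _

theorem cstab_smul {n : G} (hn : n ∈ N) (q : G ⧸ N) :
    cstab N (n • q) = (cstab N q).map (MulAut.conj n).toMonoidHom := by
  ext x
  rw [Subgroup.mem_map_equiv, MulAut.conj_symm_apply, mem_cstab, mem_cstab]
  constructor
  · rintro ⟨hx, hq⟩
    exact ⟨mul_mem (mul_mem (inv_mem hn) hx) hn, by rw [mul_smul, mul_smul, hq, inv_smul_smul]⟩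
  · rintro ⟨hx, hq⟩
    have hx' : x = n * (n⁻¹ * x * n) * n⁻¹ := by group
    refine ⟨hx' ▸ mul_mem (mul_mem hn hx) (inv_mem hn), ?_⟩
    rw [mul_smul, mul_smul] at hq
    exact (inv_smul_eq_iff.mp hq)

theorem inf_cstab_smul {V : Subgroup G} (hV : N ≤ Subgroup.normalizer (V : Set G)) {n : G}
    (hn : n ∈ N) (q : G ⧸ N) :
    V ⊓ cstab N (n • q) = (V ⊓ cstab N q).map (MulAut.conj n).toMonoidHom := by
  rw [cstab_smul hn, Subgroup.map_inf_eq _ _ _ (MulAut.conj n).injective]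
  congr 1
  ext x
  rw [Subgroup.mem_map_equiv, MulAut.conj_symm_apply]
  exact (Subgroup.mem_normalizer_iff''.mp (hV hn) x)

/-- Cosets fixed by an element, against its class in the subgroup. -/
theorem fix_mul (x : G) :
    {q : G ⧸ N | x • q = q}.ncard * Nat.card ↥N =
      {y : G | y ∈ N ∧ IsConj x y}.ncard * Nat.card ↥(cz x) := by
  classical
  haveI := Fintype.ofFinite G
  have h1 : {g : G | g⁻¹ * x * g ∈ N}.ncard = {q : G ⧸ N | x • q = q}.ncard * Nat.card ↥N := by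
    rw [← Nat.card_coe_set_eq, ← Nat.card_coe_set_eq, mul_comm, ← Nat.card_prod]
    have e : {g : G | g⁻¹ * x * g ∈ N} = QuotientGroup.mk ⁻¹' {q : G ⧸ N | x • q = q} := by
      ext g
      exact (smul_mk x g).symm
    rw [e]
    exact Nat.card_congr (QuotientGroup.preimageMkEquivSubgroupProdSet N _)
  rw [← h1, Set.ncard_eq_toFinset_card', Set.ncard_eq_toFinset_card']
  have hmaps : ∀ g ∈ ({g : G | g⁻¹ * x * g ∈ N} : Set G).toFinset,
      g⁻¹ * x * g ∈ ({y : G | y ∈ N ∧ IsConj x y} : Set G).toFinset := fun g hg => by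
    simp only [Set.mem_toFinset, Set.mem_ofPred_eq] at hg ⊢
    exact ⟨hg, isConj_iff.mpr ⟨g⁻¹, by group⟩⟩
  rw [Finset.card_eq_sum_card_fiberwise hmaps, Finset.sum_const_nat]
  intro y hy
  simp only [Set.mem_toFinset, Set.mem_ofPred_eq] at hy
  obtain ⟨h, hh⟩ := isConj_iff.mp hy.2
  rw [← Nat.card_eq_finsetCard]
  refine Nat.card_congr ⟨fun g => ⟨g.1 * h, ?_⟩, fun c => ⟨c.1 * h⁻¹, ?_⟩, fun g => ?_, fun c => ?_⟩
  · have := (Finset.mem_filter.mp g.2).2
    refine mem_cz.mpr ?_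
    show g.1 * h * x = x * (g.1 * h)
    calc g.1 * h * x = g.1 * (h * x * h⁻¹) * h := by group
      _ = g.1 * (g.1⁻¹ * x * g.1) * h := by rw [hh, this]
      _ = x * (g.1 * h) := by group
  · have hc : (c : G) * x = x * c := (mem_cz.mp c.2).eq
    have : (c.1 * h⁻¹)⁻¹ * x * (c.1 * h⁻¹) = y := by
      rw [← hh]
      calc (c.1 * h⁻¹)⁻¹ * x * (c.1 * h⁻¹) = h * c.1⁻¹ * (x * c.1) * h⁻¹ := by group
        _ = h * x * h⁻¹ := by rw [← hc]; group
    simp only [Finset.mem_filter, Set.mem_toFinset, Set.mem_ofPred_eq, this, and_true, hy.1]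
  · exact Subtype.ext (by simp)
  · exact Subtype.ext (by simp)

theorem mem_normalizer_fwd {H : Subgroup G} {n : G} (h : ∀ x ∈ H, n * x * n⁻¹ ∈ H) :
    n ∈ Subgroup.normalizer (H : Set G) := by
  have e : H.map (MulAut.conj n).toMonoidHom = H := by
    refine Subgroup.eq_of_le_of_card_ge ?_ (by rw [Subgroup.card_map_of_injective (MulAut.conj n).injective])
    rintro _ ⟨x, hx, rfl⟩
    exact h x hx
  refine Subgroup.mem_normalizer_iff.mpr fun x => ⟨h x, fun hx => ?_⟩
  rw [← e, Subgroup.mem_map_equiv, MulAut.conj_symm_apply] at hx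
  simpa [mul_assoc] using hx

variable {p : ℕ} [Fact p.Prime]

/-- Cosets fixed by a Sylow subgroup of the subgroup. -/
theorem fix_sylow (P : Sylow p ↥N) :
    {q : G ⧸ N | ∀ x ∈ (P : Subgroup ↥N).map N.subtype, x • q = q}.ncard *
      Nat.card ↥(N ⊓ Subgroup.normalizer (((P : Subgroup ↥N).map N.subtype : Subgroup G) : Set G)) =
      Nat.card ↥(Subgroup.normalizer (((P : Subgroup ↥N).map N.subtype : Subgroup G) : Set G)) := by
  classical
  set P' := (P : Subgroup ↥N).map N.subtype with hP'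
  set M := Subgroup.normalizer (P' : Set G) with hM
  have himg : {q : G ⧸ N | ∀ x ∈ P', x • q = q} = MulAction.orbit ↥M (QuotientGroup.mk 1 : G ⧸ N) := by
    ext q
    obtain ⟨g, rfl⟩ := QuotientGroup.mk_surjective q
    constructor
    · intro hq
      set Q := P'.map (MulAut.conj g⁻¹).toMonoidHom with hQ
      have hQN : Q ≤ N := by
        rintro _ ⟨x, hx, rfl⟩
        simpa using (smul_mk x g).mp (hq x hx)
      have hc : Nat.card ↥(Q.subgroupOf N) = Nat.card ↥(P : Subgroup ↥N) := by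
        rw [Nat.card_congr (Subgroup.subgroupOfEquivOfLe hQN).toEquiv, hQ,
          Subgroup.card_map_of_injective (MulAut.conj g⁻¹).injective, hP',
          Subgroup.card_map_of_injective N.subtype_injective]
      have hQp : IsPGroup p ↥(Q.subgroupOf N) := by
        obtain ⟨k, hk⟩ := P.isPGroup'.exists_card_eq
        exact IsPGroup.of_card (hc.trans hk)
      obtain ⟨R, hR⟩ := hQp.exists_le_sylow
      have hRe : Q.subgroupOf N = (R : Subgroup ↥N) :=
        Subgroup.eq_of_le_of_card_ge hR (by rw [hc, R.card_eq_multiplicity, P.card_eq_multiplicity])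
      obtain ⟨n, hn⟩ := MulAction.exists_smul_eq ↥N P R
      refine ⟨⟨g * n, ?_⟩, ?_⟩
      · have hfwd : ∀ x ∈ P', (g * n) * x * (g * (n : G))⁻¹ ∈ P' := by
          rintro _ ⟨a, ha, rfl⟩
          have h1 : n * a * n⁻¹ ∈ Q.subgroupOf N := by
            rw [hRe, ← hn, Sylow.coe_subgroup_smul]
            exact ⟨a, ha, rfl⟩
          obtain ⟨b, hb, hbe⟩ := h1
          have hbe' : g⁻¹ * b * g = (n : G) * a * (n : G)⁻¹ := by simpa using hbe
          rw [show g * n * N.subtype a * (g * (n : G))⁻¹ = g * ((n : G) * a * (n : G)⁻¹) * g⁻¹ by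
            simp only [Subgroup.coe_subtype]; group, ← hbe']
          simpa [mul_assoc] using hb
        exact mem_normalizer_fwd hfwd
      · show QuotientGroup.mk (g * n * 1) = QuotientGroup.mk g
        rw [QuotientGroup.eq]
        simp
    · rintro ⟨⟨m, hm⟩, he⟩ x ⟨a, ha, rfl⟩
      rw [← he]
      show (N.subtype a) • (QuotientGroup.mk (m * 1) : G ⧸ N) = QuotientGroup.mk (m * 1)
      rw [mul_one, smul_mk]
      obtain ⟨b, hb, hbe⟩ := (Subgroup.mem_normalizer_iff''.mp hm _).mp ⟨a, ha, rfl⟩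
      rw [← hbe]
      exact b.2
  rw [himg]
  have h := MulAction.index_stabilizer ↥M (QuotientGroup.mk 1 : G ⧸ N)
  have e : Nat.card ↥(MulAction.stabilizer ↥M (QuotientGroup.mk 1 : G ⧸ N)) = Nat.card ↥(N ⊓ M) := by
    refine Nat.card_congr ⟨fun m => ⟨m.1.1, ?_, m.1.2⟩, fun x => ⟨⟨x.1, x.2.2⟩, ?_⟩,
      fun _ => rfl, fun _ => rfl⟩
    · simpa using (smul_mk m.1.1 1).mp m.2
    · exact (smul_mk x.1 1).mpr (by simpa using x.2.1)
  rw [← h, ← e, mul_comm]
  exact Subgroup.card_mul_index _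

end Cfsg.Agent.Lib.J4Coset48
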