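import Cfsg.Agent.Lib.MathieuBlocks.M24Degree
import Cfsg.Agent.Lib.J4Five.FactsProof
import Cfsg.Agent.Lib.J4Seven.FactsProof

/-!
# Normalisers of subgroups of order 5, 7, 11, 23 of M24
-/

set_option autoImplicit false
set_option linter.unusedSectionVars false

namespace Cfsg.Agent.Lib.J4Coset48.M24Norm

open Cfsg Cfsg.Agent.Lib.Golay Cfsg.Agent.Lib.MathieuBlocks

section Generic

variable {W : Type*} [Group W] [Finite W] {p : ℕ} [Fact p.Prime]

/-- A subgroup of prime order `p` is a Sylow subgroup when `p ^ 2` does not divide the order. -/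
theorem exists_sylow_eq (h2 : ¬ p ^ 2 ∣ Nat.card W) {P : Subgroup W} (hP : Nat.card ↥P = p) :
    ∃ S : Sylow p W, (S : Subgroup W) = P := by
  have hd : p ∣ Nat.card W := hP ▸ Subgroup.card_subgroup_dvd_card P
  refine ⟨Sylow.ofCard P ?_, rfl⟩
  have h1 := (Fact.out : p.Prime).dvd_iff_one_le_factorization Nat.card_pos.ne' |>.mp hd
  have h3 : ¬ 2 ≤ (Nat.card W).factorization p := fun h =>
    h2 (((Fact.out : p.Prime).pow_dvd_iff_le_factorization Nat.card_pos.ne').mpr h)
  rw [hP, show (Nat.card W).factorization p = 1 by omega, pow_one]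

/-- The Sylow congruence. -/
theorem norm_modEq (h2 : ¬ p ^ 2 ∣ Nat.card W) {P : Subgroup W} (hP : Nat.card ↥P = p) :
    p ∣ Nat.card ↥(Subgroup.normalizer (P : Set W)) ∧
      Nat.card W / Nat.card ↥(Subgroup.normalizer (P : Set W)) % p = 1 := by
  obtain ⟨S, rfl⟩ := exists_sylow_eq h2 hP
  refine ⟨?_, ?_⟩
  · conv_lhs => rw [← hP]
    exact Subgroup.card_dvd_of_le Subgroup.le_normalizer
  · have h := Subgroup.card_mul_index (Subgroup.normalizer ((S : Subgroup W) : Set W))
    rw [← h, Nat.mul_div_cancel_left _ Nat.card_pos, ← (show Nat.card (Sylow p W) =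
      (Subgroup.normalizer ((S : Subgroup W) : Set W)).index from Sylow.card_eq_index_normalizer S)]
    have := card_sylow_modEq_one p W
    rw [Nat.ModEq, Nat.one_mod_eq_one.mpr (Fact.out : p.Prime).ne_one] at this
    exact this

/-- The normaliser modulo the centraliser acts on the subgroup. -/
theorem norm_dvd {g : W} (hg : orderOf g = p)
    (hc : Nat.card ↥(Subgroup.centralizer ({g} : Set W)) = p) :
    Nat.card ↥(Subgroup.normalizer ((Subgroup.zpowers g : Subgroup W) : Set W)) ∣ (p - 1) * p := by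
  classical
  set P := Subgroup.zpowers g
  set N := Subgroup.normalizer (P : Set W)
  have hker : Nat.card ↥(P.normalizerMonoidHom).ker = p := by
    rw [Subgroup.normalizerMonoidHom_ker, Nat.card_congr (Subgroup.subgroupOfEquivOfLe
      (Subgroup.centralizer_le_normalizer (P : Set W))).toEquiv]
    rw [show P = Subgroup.closure {g} from Subgroup.zpowers_eq_closure g,
      Subgroup.centralizer_closure, hc]
  have h := Subgroup.card_mul_index (P.normalizerMonoidHom).ker
  rw [Subgroup.index_ker, hker, mul_comm] at h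
  rw [← h]
  refine Nat.mul_dvd_mul_right ((Subgroup.card_subgroup_dvd_card _).trans (dvd_of_eq ?_)) p
  have e : Nat.card ↥P = p := by rw [Nat.card_zpowers, hg]
  haveI : IsCyclic ↥P := isCyclic_of_prime_card e
  rw [IsCyclic.card_mulAut, e, Nat.totient_prime (Fact.out : p.Prime)]

/-- The normalisers of two subgroups of order `p` have the same order. -/
theorem norm_card_eq (h2 : ¬ p ^ 2 ∣ Nat.card W) {a b : W} (ha : orderOf a = p) (hb : orderOf b = p) :
    Nat.card ↥(Subgroup.normalizer ((Subgroup.zpowers a : Subgroup W) : Set W)) =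
      Nat.card ↥(Subgroup.normalizer ((Subgroup.zpowers b : Subgroup W) : Set W)) := by
  obtain ⟨A, hA⟩ := exists_sylow_eq h2 ((Nat.card_zpowers a).trans ha)
  obtain ⟨B, hB⟩ := exists_sylow_eq h2 ((Nat.card_zpowers b).trans hb)
  have h1 := Subgroup.card_mul_index (Subgroup.normalizer ((A : Subgroup W) : Set W))
  have h3 := Subgroup.card_mul_index (Subgroup.normalizer ((B : Subgroup W) : Set W))
  rw [← (show Nat.card (Sylow p W) = (Subgroup.normalizer ((A : Subgroup W) : Set W)).index from
    Sylow.card_eq_index_normalizer A)] at h1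
  rw [← (show Nat.card (Sylow p W) = (Subgroup.normalizer ((B : Subgroup W) : Set W)).index from
    Sylow.card_eq_index_normalizer B)] at h3
  rw [← hA, ← hB]
  exact Nat.eq_of_mul_eq_mul_right Nat.card_pos (h1.trans h3.symm)

end Generic

theorem not_sq {p : ℕ} (h : p ∈ [5, 7, 11, 23]) : ¬ p ^ 2 ∣ Nat.card ↥M24 := by
  rw [Golay.card_M24]
  fin_cases h <;> norm_num

theorem card_cent {x w n : ℕ} {reps : List ℕ} {pos : List (ℕ × ℕ)} {first : List ℕ} (hn : 0 < n)
    (he : M24Elements.elementOk x w n = true)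
    (hc : Search.certOk x x n reps pos first [] (fun c => Nat.beq c oneCode) = true) :
    ∃ g : ↥M24, orderOf g = n ∧ Nat.card ↥(Subgroup.centralizer ({g} : Set ↥M24)) = n := by
  classical
  obtain ⟨hx, g, hg, hord, -⟩ := M24Degree.exists_element hn he
  refine ⟨g, hord, le_antisymm ?_ ?_⟩
  · have h := M24Degree.card_le_index hg hc (Finset.univ.filter fun p => gperm x p = p) (by simp)
      (by simp) (Or.inl rfl) (b := n) ⟨fun _ => le_rfl, fun h => absurd rfl h⟩
    have h1 := Subgroup.card_mul_index (Subgroup.centralizer ({g} : Set ↥M24))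
    rw [Golay.card_M24] at h1
    rw [← h1] at h
    exact Nat.le_of_mul_le_mul_right h (Nat.pos_of_ne_zero Subgroup.index_ne_zero_of_finite)
  · calc n = Nat.card ↥(Subgroup.zpowers g) := by rw [Nat.card_zpowers, hord]
      _ ≤ _ := Subgroup.card_le_of_le (Subgroup.zpowers_le.mpr
        (Subgroup.mem_centralizer_singleton_iff.mpr rfl))

theorem norm_eleven {a : ↥M24} (ha : orderOf a = 11) :
    Nat.card ↥(Subgroup.normalizer ((Subgroup.zpowers a : Subgroup ↥M24) : Set ↥M24)) ∣ 110 := by
  haveI : Fact (Nat.Prime 11) := ⟨by norm_num⟩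
  obtain ⟨g, hg, hc⟩ := card_cent (by norm_num) M24Elements.element11 M24Elements.cent11
  rw [norm_card_eq (not_sq (by simp)) ha hg]
  exact norm_dvd hg hc

theorem norm_twentythree {a : ↥M24} (ha : orderOf a = 23) :
    Nat.card ↥(Subgroup.normalizer ((Subgroup.zpowers a : Subgroup ↥M24) : Set ↥M24)) ∣ 253 := by
  haveI : Fact (Nat.Prime 23) := ⟨by norm_num⟩
  obtain ⟨g, hg, hc⟩ := card_cent (by norm_num) M24Elements.element23 M24Elements.cent23
  have h2 := not_sq (p := 23) (by simp)
  obtain ⟨h1, h3⟩ := norm_modEq h2 (P := Subgroup.zpowers a) ((Nat.card_zpowers a).trans ha)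
  have hd := norm_dvd hg hc
  rw [← norm_card_eq h2 ha hg] at hd
  rw [Golay.card_M24] at h3
  generalize Nat.card ↥(Subgroup.normalizer ((Subgroup.zpowers a : Subgroup ↥M24) : Set ↥M24)) = k at *
  obtain ⟨d, rfl⟩ := h1
  have hd' : d ∣ 22 := Nat.dvd_of_mul_dvd_mul_left (by norm_num : 0 < 23) (by simpa [mul_comm] using hd)
  have : d ∈ Nat.divisors 22 := Nat.mem_divisors.mpr ⟨hd', by norm_num⟩
  rw [show Nat.divisors 22 = {1, 2, 11, 22} by decide +kernel] at this
  simp only [Finset.mem_insert, Finset.mem_singleton] at this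
  rcases this with rfl | rfl | rfl | rfl <;> simp_all

theorem norm_seven {a : ↥M24} (ha : orderOf a = 7) :
    126 ≤ Nat.card ↥(Subgroup.normalizer ((Subgroup.zpowers a : Subgroup ↥M24) : Set ↥M24)) := by
  haveI : Fact (Nat.Prime 7) := ⟨by norm_num⟩
  obtain ⟨-, g, hg, hord, hsq⟩ := M24Degree.exists_element (by norm_num) M24Elements.element7
  obtain ⟨x, y, hx, hy, hxy⟩ := J4Seven.m24_seven_three
  have h2 := not_sq (p := 7) (by simp)
  obtain ⟨h1, h3⟩ := norm_modEq h2 (P := Subgroup.zpowers g) ((Nat.card_zpowers g).trans hord)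
  rw [norm_card_eq h2 ha hord]
  set N := Subgroup.normalizer ((Subgroup.zpowers g : Subgroup ↥M24) : Set ↥M24) with hN
  -- an element of order three centralising, one more permuting the powers
  have hcent3 : 3 ∣ Nat.card ↥(Subgroup.centralizer ((Subgroup.zpowers g : Subgroup ↥M24) : Set ↥M24)) := by
    obtain ⟨A, hA⟩ := exists_sylow_eq h2 ((Nat.card_zpowers x).trans hx)
    obtain ⟨B, hB⟩ := exists_sylow_eq h2 ((Nat.card_zpowers g).trans hord)
    obtain ⟨c, hc⟩ := MulAction.exists_smul_eq ↥M24 A B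
    have hm : c * y * c⁻¹ ∈ Subgroup.centralizer ((Subgroup.zpowers g : Subgroup ↥M24) : Set ↥M24) := by
      refine Subgroup.mem_centralizer_iff.mpr fun v hv => ?_
      rw [SetLike.mem_coe, ← hB, ← hc, Sylow.coe_subgroup_smul] at hv
      obtain ⟨u, hu, rfl⟩ := hv
      rw [SetLike.mem_coe, hA] at hu
      obtain ⟨i, rfl⟩ := hu
      have : Commute (x ^ i) y := (show Commute x y from hxy).zpow_left i
      show c * x ^ i * c⁻¹ * (c * y * c⁻¹) = c * y * c⁻¹ * (c * x ^ i * c⁻¹)
      calc _ = c * (x ^ i * y) * c⁻¹ := by group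
        _ = c * (y * x ^ i) * c⁻¹ := by rw [this.eq]
        _ = _ := by group
    have := orderOf_dvd_natCard (⟨_, hm⟩ :
      ↥(Subgroup.centralizer ((Subgroup.zpowers g : Subgroup ↥M24) : Set ↥M24)))
    rwa [Subgroup.orderOf_mk, show orderOf (c * y * c⁻¹) = orderOf y from
      MulEquiv.orderOf_eq (MulAut.conj c) y, hy] at this
  obtain ⟨u, hu⟩ := isConj_iff.mp hsq
  have huN : u ∈ N := by
    refine J4Local.mem_normalizer_of_le ?_
    rintro _ ⟨i, rfl⟩
    rw [← conj_zpow, hu]
    exact zpow_mem (pow_mem (Subgroup.mem_zpowers g) 2) i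
  have h9 : 9 ∣ Nat.card ↥N := by
    have hker := (Subgroup.zpowers g).normalizerMonoidHom_ker
    have h := Subgroup.card_mul_index ((Subgroup.zpowers g).normalizerMonoidHom).ker
    rw [Subgroup.index_ker] at h
    rw [hN, ← h, show (9 : ℕ) = 3 * 3 from rfl]
    refine Nat.mul_dvd_mul ?_ ?_
    · rw [hker, Nat.card_congr (Subgroup.subgroupOfEquivOfLe
        (Subgroup.centralizer_le_normalizer _)).toEquiv]
      exact hcent3
    · have hu3 : orderOf (((Subgroup.zpowers g).normalizerMonoidHom) ⟨u, huN⟩) % 3 = 0 := by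
        set σ := ((Subgroup.zpowers g).normalizerMonoidHom) ⟨u, huN⟩
        set g' : ↥(Subgroup.zpowers g) := ⟨g, Subgroup.mem_zpowers g⟩
        have hstep : ∀ k : ℕ, (σ ^ k) g' = g' ^ (2 ^ k) := by
          intro k
          induction k with
          | zero => simp
          | succ k ih =>
            rw [pow_succ', MulAut.mul_apply, ih, map_pow]
            have : σ g' = g' ^ 2 := Subtype.ext hu
            rw [this, ← pow_mul, pow_succ']
        have h0 := hstep (orderOf σ)
        rw [pow_orderOf_eq_one, MulAut.one_apply] at h0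
        have h7 : orderOf g' = 7 := by rw [Subgroup.orderOf_mk, hord]
        have hmod : 2 ^ orderOf σ % 7 = 1 := by
          have := pow_eq_pow_iff_modEq.mp (show g' ^ 1 = g' ^ (2 ^ orderOf σ) by rw [pow_one]; exact h0)
          rw [h7] at this
          exact this.symm
        rw [← Nat.div_add_mod (orderOf σ) 3, pow_add, pow_mul, Nat.mul_mod, Nat.pow_mod] at hmod
        have := Nat.mod_lt (orderOf σ) (show 0 < 3 by norm_num)
        interval_cases hr : orderOf σ % 3 <;> first | rfl | omega | (norm_num at hmod)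
      exact (Nat.dvd_of_mod_eq_zero hu3).trans ((orderOf_submonoid (⟨_, ⟨u, huN⟩, rfl⟩ :
        ↥((Subgroup.zpowers g).normalizerMonoidHom).range)).symm ▸ orderOf_dvd_natCard _)
  rw [Golay.card_M24] at h3
  obtain ⟨d, hd⟩ := Nat.Coprime.mul_dvd_of_dvd_of_dvd (by norm_num : Nat.Coprime 7 9) h1 h9
  have hpos : 0 < Nat.card ↥N := Nat.card_pos
  rw [hd] at h3 hpos ⊢
  rcases Nat.lt_or_ge d 2 with h | h
  · interval_cases d
    · omega
    · norm_num at h3
  · omega

end Cfsg.Agent.Lib.J4Coset48.M24Norm
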