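import Cfsg.Agent.Lib.J4Order.Labels
import Cfsg.Agent.Lib.J4Order.Invols
import Cfsg.Agent.Lib.M24Classes.Centralizers

/-!
# The projection of the normaliser on the complement, and the census of its involutions
-/

set_option autoImplicit false
set_option linter.unusedSectionVars false

namespace Cfsg.Agent.Lib.J4Coset48

open Cfsg Cfsg.Agent.Lib.Golay Cfsg.Agent.Lib.Computation
open Cfsg.Agent.Lib.J4Order Cfsg.Agent.Lib.J4Order.AtCalc Cfsg.Agent.Lib.J4Order.AtData
open Cfsg.Agent.Lib.LargeExtraspecial.Basic Cfsg.Agent.Lib.J4Local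

variable {G : Type*} [Group G] [Finite G] {z : G}

section
variable (M : NModel z)

theorem exists_el_eq (σ : ↥M24) : ∃ c, Good c ∧ el c = σ := J4Order.encode_exists σ

/-- The permutation part of an element of the normaliser. -/
noncomputable def projFun (n : ↥(Subgroup.normalizer (M.V : Set G))) : ↥M24 :=
  (M.exists_ev n.2).choose_spec.2.choose

theorem projFun_spec (n : ↥(Subgroup.normalizer (M.V : Set G))) :
    ∃ a < 2048, (n : G) = M.ev a (projFun M n) :=
  ⟨_, (M.exists_ev n.2).choose_spec.1, (M.exists_ev n.2).choose_spec.2.choose_spec⟩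

theorem projFun_eq {n : ↥(Subgroup.normalizer (M.V : Set G))} {a : ℕ} {σ : ↥M24} (ha : a < 2048)
    (h : (n : G) = M.ev a σ) : projFun M n = σ := by
  obtain ⟨b, hb, e⟩ := projFun_spec M n
  exact (M.ev_inj hb ha (e.symm.trans h)).2

/-- The projection of the normaliser on the complement. -/
noncomputable def proj : ↥(Subgroup.normalizer (M.V : Set G)) →* ↥M24 where
  toFun := projFun M
  map_one' := projFun_eq M (a := 0) zero_lt_2048 (by simp [NModel.ev, M.ψ_zero])
  map_mul' m n := by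
    obtain ⟨a, ha, e1⟩ := projFun_spec M m
    obtain ⟨b, hb, e2⟩ := projFun_spec M n
    obtain ⟨c, hc, ec⟩ := exists_el_eq (projFun M m)
    refine projFun_eq M (a := a ^^^ act c b) (Nat.xor_lt_two_pow (n := 11) ha (act_lt c b)) ?_
    rw [Subgroup.coe_mul, e1, e2, ← ec, M.ev_mul ha hb hc]

theorem proj_ev {a : ℕ} (ha : a < 2048) (σ : ↥M24) :
    proj M ⟨M.ev a σ, M.ev_mem a σ⟩ = σ :=
  projFun_eq M ha rfl

theorem proj_eq_one {n : ↥(Subgroup.normalizer (M.V : Set G))} : proj M n = 1 ↔ (n : G) ∈ M.V := by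
  constructor
  · intro h
    obtain ⟨a, ha, e⟩ := projFun_spec M n
    rw [show projFun M n = 1 from h, M.ev_one_eq] at e
    exact e ▸ M.ψ_mem a
  · intro h
    obtain ⟨a, ha, e⟩ := M.frame.surj (n : G) h
    exact projFun_eq M ha (by rw [M.ev_one_eq]; exact e.symm)

theorem proj_surjective : Function.Surjective (proj M) := fun σ =>
  ⟨⟨M.ev 0 σ, M.ev_mem 0 σ⟩, proj_ev M zero_lt_2048 σ⟩

/-- The image of a subgroup of the normaliser. -/
noncomputable def img (H : Subgroup G) : Subgroup ↥M24 :=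
  (H.subgroupOf (Subgroup.normalizer (M.V : Set G))).map (proj M)

theorem card_img {H : Subgroup G} (hH : H ≤ Subgroup.normalizer (M.V : Set G)) :
    Nat.card ↥H = Nat.card ↥(M.V ⊓ H) * Nat.card ↥(img M H) := by
  set H' := H.subgroupOf (Subgroup.normalizer (M.V : Set G)) with hH'
  set f : ↥H' →* ↥M24 := (proj M).comp H'.subtype
  have h := Subgroup.card_mul_index f.ker
  have hr : f.range = img M H := by
    rw [MonoidHom.range_eq_map, ← Subgroup.map_map, ← MonoidHom.range_eq_map, Subgroup.range_subtype]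
    rfl
  rw [Subgroup.index_ker, hr] at h
  rw [← Nat.card_congr (Subgroup.subgroupOfEquivOfLe hH).toEquiv, ← h]
  congr 1
  exact Nat.card_congr ⟨fun x => ⟨x.1.1.1, (proj_eq_one M).mp x.2, x.1.2⟩,
    fun v => ⟨⟨⟨v.1, hH v.2.2⟩, v.2.2⟩, (proj_eq_one M).mpr v.2.1⟩, fun _ => rfl, fun _ => rfl⟩

theorem card_eleven : Nat.card ↥M.V = 2 ^ 11 := by
  rw [← Nat.card_eq_of_bijective (fun a : Fin 2048 => (⟨M.ψ a, M.ψ_mem a⟩ : ↥M.V))
    ⟨fun a b e => Fin.ext (M.frame.inj _ _ a.2 b.2 (congrArg Subtype.val e)), fun v => by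
      obtain ⟨a, ha, e⟩ := M.frame.surj v v.2
      exact ⟨⟨a, ha⟩, Subtype.ext e⟩⟩, Nat.card_fin]
  norm_num

theorem card_normalizer : Nat.card ↥(Subgroup.normalizer (M.V : Set G)) = 501397585920 := by
  have h := Subgroup.card_mul_index (proj M).ker
  rw [Subgroup.index_ker, MonoidHom.range_eq_top.mpr (proj_surjective M),
    Nat.card_congr Subgroup.topEquiv.toEquiv, Golay.card_M24] at h
  have e : Nat.card ↥(proj M).ker = 2 ^ 11 := by
    rw [← card_eleven M]
    exact Nat.card_congr ⟨fun x => ⟨x.1.1, (proj_eq_one M).mp x.2⟩,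
      fun v => ⟨⟨v.1, Subgroup.le_normalizer v.2⟩, (proj_eq_one M).mpr v.2⟩, fun _ => rfl, fun _ => rfl⟩
  rw [← h, e]
  norm_num

open Classical in
/-- The number of vectors giving an element with a property over a permutation. -/
noncomputable def cnt (P : G → Prop) (σ : ↥M24) : ℕ :=
  ((Finset.range 2048).filter fun a => P (M.ev a σ)).card

theorem cnt_conj {P : G → Prop} (hP : ∀ h v : G, P (h * v * h⁻¹) ↔ P v) (τ σ : ↥M24) :
    cnt M P (τ * σ * τ⁻¹) = cnt M P σ := by
  classical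
  obtain ⟨g, hg, rfl⟩ := exists_el_eq τ
  refine (Finset.card_bij (fun a _ => act g a) ?_ ?_ ?_).symm
  · intro a ha
    rw [Finset.mem_filter, Finset.mem_range] at ha ⊢
    exact ⟨act_lt g a, by rw [← M.conj_ev hg ha.1, hP]; exact ha.2⟩
  · intro a ha b hb e
    rw [Finset.mem_filter, Finset.mem_range] at ha hb
    exact M.act_inj hg ha.1 hb.1 e
  · intro x hx
    rw [Finset.mem_filter, Finset.mem_range] at hx
    obtain ⟨a, ha, rfl⟩ := M.act_surj hg hx.1
    refine ⟨a, ?_, rfl⟩
    rw [Finset.mem_filter, Finset.mem_range]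
    exact ⟨ha, by rw [← M.conj_ev hg ha, hP] at hx; exact hx.2⟩

/-- A conjugacy invariant count, fibred over the complement. -/
theorem ncard_eq_sum [Fintype ↥M24] (P : G → Prop) :
    {y : G | y ∈ Subgroup.normalizer (M.V : Set G) ∧ P y}.ncard = ∑ σ : ↥M24, cnt M P σ := by
  classical
  haveI := Fintype.ofFinite G
  simp only [cnt]
  rw [← Finset.card_sigma, Set.ncard_eq_toFinset_card']
  refine (Finset.card_bij (fun x _ => M.ev x.2 x.1) ?_ ?_ ?_).symm
  · intro x hx
    simp only [Finset.mem_sigma, Finset.mem_filter, Finset.mem_range] at hx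
    rw [Set.mem_toFinset]
    exact ⟨M.ev_mem _ _, hx.2.2⟩
  · intro x hx y hy e
    simp only [Finset.mem_sigma, Finset.mem_filter, Finset.mem_range] at hx hy
    obtain ⟨e1, e2⟩ := M.ev_inj hx.2.1 hy.2.1 e
    exact Sigma.ext e2 (heq_of_eq e1)
  · intro y hy
    rw [Set.mem_toFinset] at hy
    obtain ⟨a, ha, σ, rfl⟩ := M.exists_ev hy.1
    refine ⟨⟨σ, a⟩, ?_, rfl⟩
    simp only [Finset.mem_sigma, Finset.mem_filter, Finset.mem_range]
    exact ⟨Finset.mem_univ _, ha, hy.2⟩

theorem ev_sq_perm {a : ℕ} (ha : a < 2048) {σ : ↥M24} (h : M.ev a σ * M.ev a σ = 1) : σ * σ = 1 := by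
  have := congrArg (proj M) (show (⟨M.ev a σ, M.ev_mem a σ⟩ : ↥(Subgroup.normalizer (M.V : Set G))) *
    ⟨M.ev a σ, M.ev_mem a σ⟩ = 1 from Subtype.ext h)
  rwa [map_mul, map_one, proj_ev M ha] at this

theorem class_card {c : ℕ} (hc : Good c) {n : ℕ}
    (hcard : Nat.card ↥(M24Classes.Centralizers.cent (gperm c)) = n) :
    {σ : ↥M24 | IsConj (el c) σ}.ncard * n = 244823040 := by
  classical
  have e : Nat.card ↥(Subgroup.centralizer ({el c} : Set ↥M24)) = n := by
    rw [← hcard]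
    refine Nat.card_congr ⟨fun g => ⟨g.1.1, g.1.2, Subgroup.mem_centralizer_singleton_iff.mpr ?_⟩,
      fun g => ⟨⟨g.1, g.2.1⟩, Subgroup.mem_centralizer_singleton_iff.mpr (Subtype.ext ?_)⟩,
      fun _ => rfl, fun _ => rfl⟩
    · have := congrArg Subtype.val (Subgroup.mem_centralizer_singleton_iff.mp g.2)
      rwa [Subgroup.coe_mul, Subgroup.coe_mul, el_coe hc.2] at this
    · rw [Subgroup.coe_mul, Subgroup.coe_mul, el_coe hc.2]
      exact Subgroup.mem_centralizer_singleton_iff.mp g.2.2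
  have h := J4Big.Orbit.ncard_orb_mul (⊤ : Subgroup ↥M24) (el c)
  rw [top_inf_eq, e, Nat.card_congr Subgroup.topEquiv.toEquiv, Golay.card_M24] at h
  rw [← h]
  congr 2
  ext σ
  simp only [J4Big.Orbit.orb, Set.mem_ofPred_eq, Subgroup.mem_top, true_and, isConj_iff]

end

end Cfsg.Agent.Lib.J4Coset48
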