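import Cfsg.Agent.Lib.J4Coset48.Rest
import Cfsg.Agent.Lib.J4Coset48.Proj
import Cfsg.Agent.Lib.J4Coset48.M24Norm

/-!
# The kind of an orbit off the neighbourhood
-/

set_option autoImplicit false
set_option linter.unusedSectionVars false

namespace Cfsg.Agent.Lib.J4Coset48

open Cfsg Cfsg.Agent.Lib.LargeExtraspecial.Basic Cfsg.Agent.Lib.J4Local Cfsg.Agent.Lib.J4Big
open Cfsg.Agent.Lib.J4Order
open scoped Classical

section Generic

variable {G : Type*} [Group G] [Finite G]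

/-- Sylow subgroups inside a subgroup. -/
theorem conj_sylow {W : Subgroup G} {p k : ℕ} [Fact p.Prime] (hk : ¬ p ^ (k + 1) ∣ Nat.card ↥W)
    {X Y : Subgroup G} (hX : X ≤ W) (hY : Y ≤ W) (hXc : Nat.card ↥X = p ^ k)
    (hYc : Nat.card ↥Y = p ^ k) : ∃ n ∈ W, ∀ x ∈ X, n * x * n⁻¹ ∈ Y := by
  have key : ∀ X : Subgroup G, X ≤ W → Nat.card ↥X = p ^ k →
      ∃ P : Sylow p ↥W, (P : Subgroup ↥W) = X.subgroupOf W := by
    intro X hX hXc
    have hc : Nat.card ↥(X.subgroupOf W) = p ^ k := by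
      rw [Nat.card_congr (Subgroup.subgroupOfEquivOfLe hX).toEquiv, hXc]
    obtain ⟨P, hP⟩ := (IsPGroup.of_card hc).exists_le_sylow
    obtain ⟨i, hi⟩ := P.2.exists_card_eq
    refine ⟨P, (Subgroup.eq_of_le_of_card_ge hP ?_).symm⟩
    rw [hi, hc]
    refine Nat.pow_le_pow_right (Fact.out : p.Prime).pos ?_
    by_contra h
    exact hk ((pow_dvd_pow p (show k + 1 ≤ i by omega)).trans (hi ▸ Subgroup.card_subgroup_dvd_card _))
  obtain ⟨P, hP⟩ := key X hX hXc
  obtain ⟨R, hR⟩ := key Y hY hYc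
  obtain ⟨n, hn⟩ := MulAction.exists_smul_eq ↥W P R
  refine ⟨n, n.2, fun x hx => ?_⟩
  have h : n * ⟨x, hX hx⟩ * n⁻¹ ∈ ((n • P : Sylow p ↥W) : Subgroup ↥W) :=
    Subgroup.smul_mem_pointwise_smul (⟨x, hX hx⟩ : ↥W) (MulAut.conj n) _ (hP.ge (show (⟨x, hX hx⟩ : ↥W) ∈ X.subgroupOf W from hx))
  rw [hn, hR] at h
  exact h

/-- The Sylow number of a subgroup of the complement. -/
theorem sylow_number {W₀ : Type*} [Group W₀] [Finite W₀] (W : Subgroup W₀) {p : ℕ} [Fact p.Prime]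
    (h2 : ¬ p ^ 2 ∣ Nat.card W₀) (hp : p ∣ Nat.card ↥W) {n : ℕ}
    (hn : ∀ a : W₀, orderOf a = p →
      Nat.card ↥(Subgroup.normalizer ((Subgroup.zpowers a : Subgroup W₀) : Set W₀)) ∣ n) :
    ∃ d, d ∣ Nat.card ↥W ∧ d ∣ n ∧ p ∣ d ∧ Nat.card ↥W / d % p = 1 := by
  obtain ⟨a, ha⟩ := exists_prime_orderOf_dvd_card' p hp
  have hP : Nat.card ↥(Subgroup.zpowers a) = p := (Nat.card_zpowers a).trans ha
  obtain ⟨h1, h3⟩ := M24Norm.norm_modEq
    (fun h => h2 (h.trans (Subgroup.card_subgroup_dvd_card W))) hP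
  refine ⟨_, Subgroup.card_subgroup_dvd_card _, ?_, h1, h3⟩
  have ha' : orderOf (a : W₀) = p := (orderOf_injective W.subtype Subtype.coe_injective a).trans ha
  refine dvd_trans ?_ (hn a ha')
  rw [← Subgroup.card_map_of_injective W.subtype_injective]
  refine Subgroup.card_dvd_of_le (le_trans (Subgroup.le_normalizer_map _) ?_)
  rw [MonoidHom.map_zpowers]
  exact le_rfl

end Generic

variable {G : Type*} [Group G] [Finite G] {z p : G}

namespace Ctx

variable (C : Ctx z p)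

theorem cstab_le (q : G ⧸ N₁ C.S) : cstab (N₁ C.S) q ≤ Subgroup.normalizer (C.M.V : Set G) := by
  rw [C.normEq]
  exact inf_le_left

/-- An orbit kind. -/
noncomputable def kind (q : G ⧸ N₁ C.S) : ℕ × ℕ :=
  (Nat.log 2 (Nat.card ↥(tPart C.S q)), Nat.card ↥(img C.M (cstab (N₁ C.S) q)))

theorem card_tPart (q : G ⧸ N₁ C.S) : Nat.card ↥(tPart C.S q) = 2 ^ (C.kind q).1 := by
  haveI := Fact.mk Nat.prime_two
  have hd : Nat.card ↥(tPart C.S q) ∣ 2 ^ 11 :=
    (Subgroup.card_dvd_of_le inf_le_left).trans (dvd_of_eq (vv_facts C.S autFacts bigC).1)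
  obtain ⟨k, -, hk⟩ := (Nat.dvd_prime_pow Nat.prime_two).mp hd
  rw [kind, hk, Nat.log_pow (by norm_num)]

theorem card_stab (q : G ⧸ N₁ C.S) :
    Nat.card ↥(cstab (N₁ C.S) q) = 2 ^ (C.kind q).1 * (C.kind q).2 := by
  rw [card_img C.M (C.cstab_le q), ← C.card_tPart, C.eqV]
  rfl

theorem size (q : G ⧸ N₁ C.S) : (norb (N₁ C.S) q).ncard = osz (C.kind q) := by
  have h := norb_card (N := N₁ C.S) q
  rw [C.card_stab, C.cardN] at h
  rw [osz, show J4Coset48.cardN = 501397585920 from rfl, ← h, Nat.mul_div_cancel _ (by rw [← C.card_stab]; exact Nat.card_pos)]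

theorem kind_smul {n : G} (hn : n ∈ N₁ C.S) (q : G ⧸ N₁ C.S) : C.kind (n • q) = C.kind q := by
  have h1 : Nat.card ↥(tPart C.S (n • q)) = Nat.card ↥(tPart C.S q) := by
    rw [tPart_smul C.S hn, Subgroup.card_map_of_injective (MulAut.conj n).injective]
  have hj : (C.kind (n • q)).1 = (C.kind q).1 := by
    show Nat.log 2 _ = Nat.log 2 _
    rw [h1]
  refine Prod.ext hj ?_
  have h2 := C.card_stab (n • q)
  rw [cstab_smul hn, Subgroup.card_map_of_injective (MulAut.conj n).injective, C.card_stab, hj] at h2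
  exact (Nat.eq_of_mul_eq_mul_left (by positivity) h2).symm

theorem kind_norb {q r : G ⧸ N₁ C.S} (h : r ∈ norb (N₁ C.S) q) : C.kind r = C.kind q := by
  obtain ⟨n, hn, rfl⟩ := mem_norb.mp h
  exact C.kind_smul hn q

theorem rest_smul {qA qB q : G ⧸ N₁ C.S} (hq : q ∈ C.rest qA qB) {n : G} (hn : n ∈ N₁ C.S) :
    n • q ∈ C.rest qA qB := by
  obtain ⟨h1, h2, h3⟩ := hq
  have hb : n⁻¹ • base C.S = base C.S := mk_one_smul C.S (inv_mem hn)
  have key : ∀ {r : G ⧸ N₁ C.S}, q ∉ norb (N₁ C.S) r → n • q ∉ norb (N₁ C.S) r := fun {r} h h' => by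
    obtain ⟨m, hm, e⟩ := mem_norb.mp h'
    exact h (mem_norb.mpr ⟨n⁻¹ * m, mul_mem (inv_mem hn) hm, by rw [mul_smul, e, inv_smul_smul]⟩)
  exact ⟨fun e => h1 (by rw [← inv_smul_smul n q, e, hb]), key h2, key h3⟩

theorem norb_subset {qA qB q : G ⧸ N₁ C.S} (hq : q ∈ C.rest qA qB) :
    norb (N₁ C.S) q ⊆ C.rest qA qB := fun r hr => by
  obtain ⟨n, hn, rfl⟩ := mem_norb.mp hr
  exact C.rest_smul hq hn

include C in
theorem card_cz_fused {v : G} (hv : IsConj z v) : Nat.card ↥(cz v) = 21799895040 := by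
  obtain ⟨g, rfl⟩ := isConj_iff.mp hv
  rw [cz_conj, Subgroup.card_map_of_injective (MulAut.conj g).injective, C.S.card_cz autFacts]
  norm_num

variable [IsSimpleGroup G] (hG : ¬ IsMulCommutative G) (hJ : Cfsg.IsOfJankoFourTypeAt z)
  {qA qB : G ⧸ N₁ C.S} (H : Neigh C.S qA qB) {q : G ⧸ N₁ C.S} (hq : q ∈ C.rest qA qB)
include hG hJ H hq

theorem fused_of_mem {v : G} (hv : v ∈ tPart C.S q) (h1 : v ≠ 1) : IsConj z v := by
  by_contra hz
  exact C.rest_other hG hJ H hq hv ⟨hv.1, h1, hz⟩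

theorem kind_le : (C.kind q).1 ≤ 10 := by
  by_contra h
  obtain ⟨hc, -, -⟩ := vv_facts C.S autFacts bigC
  have he : tPart C.S q = V₁ C.S := Subgroup.eq_of_le_of_card_ge inf_le_left (by
    rw [hc, C.card_tPart]
    exact Nat.pow_le_pow_right (by norm_num) (by omega))
  obtain ⟨t, ht⟩ := dV_nonempty C.S autFacts Cert2.normConfig (fusedE hG C.S)
  exact C.rest_other hG hJ H hq (he ▸ ht.1) ht

/-- An element of the stabiliser whose prime order is prime to the fused centralisers. -/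
theorem fixed_free {w : G} (hw : w ∈ cstab (N₁ C.S) q) {r : ℕ} [Fact r.Prime] (ho : orderOf w = r)
    (hr : ¬ r ∣ 21799895040) : 2 ^ (C.kind q).1 % r = 1 := by
  have hwr : w ^ r = 1 := ho ▸ pow_orderOf_eq_one w
  have hinv : ∀ v, v ∈ tPart C.S q → w * v * w⁻¹ ∈ tPart C.S q := fun v hv =>
    Subgroup.mem_inf.mpr ⟨(Subgroup.mem_normalizer_iff.mp hw.1 v).mp hv.1, mul_mem (mul_mem hw hv.2) (inv_mem hw)⟩
  have h := J4Seven.card_modEq hwr (fun v => v ∈ tPart C.S q) hinv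
  have h1 : Nat.card {v // v ∈ tPart C.S q ∧ Commute v w} = 1 := by
    refine Nat.card_eq_one_iff_unique.mpr ⟨⟨fun a b => Subtype.ext ?_⟩, ⟨⟨1, one_mem _, Commute.one_left w⟩⟩⟩
    have key : ∀ v, v ∈ tPart C.S q → Commute v w → v = 1 := fun v hv hc => by
      by_contra h1
      refine hr ?_
      rw [← C.card_cz_fused (C.fused_of_mem hG hJ H hq hv h1), ← ho]
      exact (Subgroup.orderOf_mk w (mem_cz.mpr hc.symm)) ▸ orderOf_dvd_natCard (⟨w, mem_cz.mpr hc.symm⟩ : ↥(cz v))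
    rw [key a a.2.1 a.2.2, key b b.2.1 b.2.2]
  have hT : Nat.card ↥(tPart C.S q) ≡ _ [MOD r] := h
  rw [C.card_tPart, h1, Nat.ModEq, Nat.one_mod_eq_one.mpr (Fact.out : r.Prime).ne_one] at hT
  exact hT

omit [IsSimpleGroup G] hG hJ H hq in
theorem exists_order {r : ℕ} [Fact r.Prime] (hr : r ∣ (C.kind q).2) :
    ∃ w ∈ cstab (N₁ C.S) q, orderOf w = r := by
  obtain ⟨⟨w, hw⟩, ho⟩ := exists_prime_orderOf_dvd_card' (G := ↥(cstab (N₁ C.S) q)) r
    (by rw [C.card_stab]; exact hr.trans (dvd_mul_left _ _))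
  exact ⟨w, hw, (Subgroup.orderOf_mk w hw).symm.trans ho⟩

omit [IsSimpleGroup G] hG hJ H hq in
theorem sylOk_of {r : ℕ} [Fact r.Prime] (h2 : ¬ r ^ 2 ∣ Nat.card ↥M24) {n : ℕ} {ds : List ℕ}
    (hr : r ∣ (C.kind q).2)
    (hn : ∀ a : ↥M24, orderOf a = r →
      Nat.card ↥(Subgroup.normalizer ((Subgroup.zpowers a : Subgroup ↥M24) : Set ↥M24)) ∣ n)
    (hds : ∀ d ∈ Nat.divisors n, r ∣ d → d ∈ ds) (hn0 : n ≠ 0) :
    sylOk (C.kind q).2 r ds = true := by
  obtain ⟨d, hd, hdn, hrd, hmod⟩ := sylow_number (img C.M (cstab (N₁ C.S) q)) h2 hr hn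
  simp only [sylOk, List.any_eq_true, Bool.and_eq_true, Nat.beq_eq]
  exact ⟨d, hds d (Nat.mem_divisors.mpr ⟨hdn, hn0⟩) hrd, Nat.dvd_iff_mod_eq_zero.mp hd, hmod⟩

theorem twentythree (h : 23 ∣ (C.kind q).2) :
    (C.kind q).1 = 0 ∧ sylOk (C.kind q).2 23 [23, 253] = true := by
  haveI : Fact (Nat.Prime 23) := ⟨by norm_num⟩
  obtain ⟨w, hw, ho⟩ := C.exists_order h
  have h1 := C.fixed_free hG hJ H hq hw ho (by norm_num)
  have hle := C.kind_le hG hJ H hq
  refine ⟨?_, C.sylOk_of (M24Norm.not_sq (by simp)) h (fun a ha => M24Norm.norm_twentythree ha)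
    (by decide +kernel) (by norm_num)⟩
  generalize (C.kind q).1 = j at h1 hle
  interval_cases j <;> first | rfl | (norm_num at h1)

omit [IsSimpleGroup G] hG hJ H hq in
theorem eleven (h : 11 ∣ (C.kind q).2) : sylOk (C.kind q).2 11 [11, 22, 55, 110] = true := by
  haveI : Fact (Nat.Prime 11) := ⟨by norm_num⟩
  exact C.sylOk_of (M24Norm.not_sq (by simp)) h (fun a ha => M24Norm.norm_eleven ha)
    (by decide +kernel) (by norm_num)

/-- With a single fused involution in the common part the stabiliser centralises one. -/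
theorem one_fused (h : (C.kind q).1 = 1) :
    2 * (C.kind q).2 ∣ 2752512 ∨ 2 * (C.kind q).2 ∣ 491520 := by
  have hT := C.card_tPart q
  rw [h, pow_one] at hT
  obtain ⟨v, hv, hv1⟩ : ∃ v ∈ tPart C.S q, v ≠ 1 := by
    by_contra hall
    push Not at hall
    haveI : Subsingleton ↥(tPart C.S q) :=
      ⟨fun a b => Subtype.ext ((hall a a.2).trans (hall b b.2).symm)⟩
    rw [Nat.card_of_subsingleton (⟨1, one_mem _⟩ : ↥(tPart C.S q))] at hT
    omega
  have hall : ∀ x ∈ tPart C.S q, x = 1 ∨ x = v := by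
    intro x hx
    by_contra hne
    push Not at hne
    have h3 : ({1, v, x} : Set G).ncard ≤ (tPart C.S q : Set G).ncard :=
      Set.ncard_le_ncard (by rintro y (rfl | rfl | rfl) <;> simp [hx, hv])
    rw [← Nat.card_coe_set_eq (tPart C.S q : Set G), SetLike.coe_sort_coe, hT, Set.ncard_eq_three.mpr
      ⟨1, v, x, hv1.symm, hne.1.symm, hne.2.symm, rfl⟩] at h3
    omega
  obtain ⟨g, rfl⟩ := QuotientGroup.mk_surjective q
  set u := g⁻¹ * v * g with hu
  have huN : u ∈ Subgroup.normalizer (C.M.V : Set G) := by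
    rw [C.normEq]
    exact (smul_mk v g).mp hv.2.2
  have huV : u ∉ C.M.V := fun h' => by
    rw [C.eqV] at h'
    exact hv1 (H.rest _ hq.1 hq.2.1 hq.2.2 v hv.1 ((inW_mk C.S g v).mpr h'))
  have hz : IsConj z u :=
    (C.fused_of_mem hG hJ H hq hv hv1).trans (isConj_iff.mpr ⟨g⁻¹, by simp [hu]⟩)
  have hle : (cstab (N₁ C.S) (QuotientGroup.mk g)).map (MulAut.conj g⁻¹).toMonoidHom ≤
      Subgroup.normalizer (C.M.V : Set G) ⊓ cz u := by
    rintro _ ⟨x, hx, rfl⟩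
    refine ⟨?_, mem_cz.mpr ?_⟩
    · rw [C.normEq]
      simpa using (smul_mk x g).mp hx.2
    · have hxv : Commute x v := by
        have h2 : x * v * x⁻¹ ∈ tPart C.S (QuotientGroup.mk g) :=
          Subgroup.mem_inf.mpr ⟨(Subgroup.mem_normalizer_iff.mp hx.1 v).mp hv.1, mul_mem (mul_mem hx hv.2) (inv_mem hx)⟩
        rcases hall _ h2 with h3 | h3
        · exact absurd (conj_eq_one_iff.mp h3) hv1
        · exact mul_inv_eq_iff_eq_mul.mp h3
      have := hxv.map (MulAut.conj g⁻¹)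
      simpa [hu] using this
  have hd := Subgroup.card_dvd_of_le hle
  rw [Subgroup.card_map_of_injective (MulAut.conj g⁻¹).injective, C.card_stab, h, pow_one] at hd
  exact (cent_out C.M C.fus huN huV hz).imp hd.trans hd.trans

end Ctx

end Cfsg.Agent.Lib.J4Coset48
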