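import Cfsg.Agent.Lib.J4Coset48.Power

/-!
# No stabiliser off the neighbourhood has order divisible by 7
-/

set_option autoImplicit false
set_option linter.unusedSectionVars false

namespace Cfsg.Agent.Lib.J4Coset48

open Cfsg Cfsg.Agent.Lib.LargeExtraspecial.Basic Cfsg.Agent.Lib.J4Local Cfsg.Agent.Lib.J4Big
open Cfsg.Agent.Lib.J4Order
open scoped Classical

variable {G : Type*} [Group G] [Finite G] {z p : G}

namespace Ctx

variable (C : Ctx z p) [IsSimpleGroup G] (hG : ¬ IsMulCommutative G)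
  (hJ : Cfsg.IsOfJankoFourTypeAt z)
  {qA qB : G ⧸ N₁ C.S} (H : Neigh C.S qA qB) {q : G ⧸ N₁ C.S} (hq : q ∈ C.rest qA qB)

omit [IsSimpleGroup G] in
/-- Products of the fixed vectors and the normaliser in the complement. -/
theorem norm_lower {a : ↥M24} :
    Nat.card ↥(Subgroup.normalizer ((Subgroup.zpowers a : Subgroup ↥M24) : Set ↥M24)) *
      Nat.card ↥(V₁ C.S ⊓ cz (C.M.κ a)) ≤
    Nat.card ↥(N₁ C.S ⊓
      Subgroup.normalizer ((Subgroup.zpowers (C.M.κ a) : Subgroup G) : Set G)) := by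
  set x := C.M.κ a
  have hmem : ∀ σ ∈ Subgroup.normalizer ((Subgroup.zpowers a : Subgroup ↥M24) : Set ↥M24),
      C.M.κ σ ∈ Subgroup.normalizer ((Subgroup.zpowers x : Subgroup G) : Set G) := fun σ hσ => by
    have h := Subgroup.le_normalizer_map (H := Subgroup.zpowers a) C.M.κ ⟨σ, hσ, rfl⟩
    rwa [MonoidHom.map_zpowers] at h
  have hA : ∀ v ∈ V₁ C.S ⊓ cz x,
      v ∈ Subgroup.normalizer ((Subgroup.zpowers x : Subgroup G) : Set G) := fun v hv => by
    refine Subgroup.centralizer_le_normalizer _ ?_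
    rw [Subgroup.zpowers_eq_closure, Subgroup.centralizer_closure]
    exact hv.2
  rw [← Nat.card_prod]
  refine Nat.card_le_card_of_injective (fun t => ⟨t.2.1 * C.M.κ t.1.1,
    Subgroup.mem_inf.mpr ⟨mul_mem (Subgroup.le_normalizer t.2.2.1) (C.κ_mem _),
      mul_mem (hA _ t.2.2) (hmem _ t.1.2)⟩⟩) ?_
  rintro ⟨σ, v⟩ ⟨τ, w⟩ e
  have e' : (v : G) * C.M.κ σ = w * C.M.κ τ := congrArg Subtype.val e
  have h : C.M.κ ((σ : ↥M24) * (τ : ↥M24)⁻¹) = (v : G)⁻¹ * w := by
    rw [map_mul, map_inv]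
    calc C.M.κ σ * (C.M.κ τ)⁻¹ = (v : G)⁻¹ * (v * C.M.κ σ) * (C.M.κ τ)⁻¹ := by group
      _ = _ := by rw [e']; group
  have hst : (σ : ↥M24) = τ := mul_inv_eq_one.mp (C.M.meet (by
    rw [h, C.eqV]
    exact mul_mem (inv_mem v.2.1) w.2.1))
  rw [hst] at e'
  exact Prod.ext (Subtype.ext hst) (Subtype.ext (mul_right_cancel e'))

include hG hJ H hq

theorem not_seven : ¬ 7 ∣ Nat.card ↥(cstab (N₁ C.S) q) := by
  haveI : Fact (Nat.Prime 7) := ⟨by norm_num⟩
  intro h7
  obtain ⟨a, ha, hxo⟩ := C.exists_prime 7 (by norm_num)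
  set x := C.M.κ a
  have hxN : x ∈ N₁ C.S := C.κ_mem a
  set A := V₁ C.S ⊓ cz x with hA
  set D := {v : G | v ∈ dV C.S bigC ∧ Commute v x}
  have hD3 : 3 ≤ D.ncard := by
    have h := J4Seven.card_modEq (n := 7) (by rw [← hxo, pow_orderOf_eq_one])
      (fun v => v ∈ dV C.S bigC)
      (fun v hv => (conj_mem_dV_iff C.S autFacts bigC hxN hv.1).mpr hv)
    rw [show Nat.card {v // v ∈ dV C.S bigC} = 276 from (Nat.card_coe_set_eq (dV C.S bigC)).trans
      (card_dV C.S autFacts Cert2.normConfig (fusedE hG C.S)),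
      show Nat.card {v // v ∈ dV C.S bigC ∧ Commute v x} = D.ncard from Nat.card_coe_set_eq D,
      Nat.ModEq] at h
    omega
  have hDA : D ⊆ (A : Set G) \ {1} := fun v hv => ⟨⟨hv.1.1, mem_cz.mpr hv.2⟩, hv.1.2.1⟩
  have hA1 : D.ncard + 1 ≤ Nat.card ↥A := by
    have h1 := Set.ncard_le_ncard hDA
    rw [Set.ncard_sdiff_singleton_of_mem (one_mem A : (1 : G) ∈ (A : Set G)),
      ← Nat.card_coe_set_eq (A : Set G), SetLike.coe_sort_coe] at h1
    have := Nat.card_pos (α := ↥A)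
    omega
  have hA2 : Nat.card ↥A ∣ 2 ^ 11 :=
    (Subgroup.card_dvd_of_le inf_le_left).trans (dvd_of_eq (vv_facts C.S autFacts bigC).1)
  have hfix := C.fix_prime hxN hxo (by norm_num)
  rw [C.seven_norm x hxo] at hfix
  have hlow := le_trans (Nat.mul_le_mul_right (Nat.card ↥A) (M24Norm.norm_seven ha)) C.norm_lower
  set F := {r : G ⧸ N₁ C.S | x • r = r}
  -- three fixed cosets
  obtain ⟨q', hq'o, hq'x⟩ := C.exists_fixed hxN hxo (by norm_num) q h7
  have hq' := C.norb_subset hq hq'o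
  have hB : 7 ∣ Nat.card ↥(cstab (N₁ C.S) qB) := by
    have h := norb_card (N := N₁ C.S) qB
    rw [H.sizeB, C.cardN] at h
    exact ⟨4718592, by omega⟩
  obtain ⟨b, hb, hbx⟩ := C.exists_fixed hxN hxo (by norm_num) qB hB
  have hbase : x • base C.S = base C.S := mk_one_smul C.S hxN
  have hne : base C.S ≠ b := fun e => by
    have h1 := (H.countB _ hb).card
    rw [← e, C.tPart_base, (vv_facts C.S autFacts bigC).1] at h1
    norm_num at h1
  obtain ⟨k, hk, hkA⟩ := (Nat.dvd_prime_pow Nat.prime_two).mp hA2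
  rcases Nat.lt_or_ge k 3 with hk3 | hk3
  · -- the fixed vectors are the three of the 276
    have hA4 : Nat.card ↥A = 4 := by
      interval_cases k <;> omega
    have hall : ∀ v ∈ A, v ≠ 1 → v ∈ D := by
      intro v hv hv1
      have heq : D = (A : Set G) \ {1} := Set.eq_of_subset_of_ncard_le hDA (by
        rw [Set.ncard_sdiff_singleton_of_mem (one_mem A : (1 : G) ∈ (A : Set G)),
          ← Nat.card_coe_set_eq (A : Set G), SetLike.coe_sort_coe, hA4]
        omega)
      rw [heq]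
      exact ⟨hv, hv1⟩
    set O := (fun v : G => v • q') '' (A : Set G)
    have hO : O.ncard = 4 := by
      rw [Set.ncard_image_of_injOn ?_, ← Nat.card_coe_set_eq (A : Set G), SetLike.coe_sort_coe, hA4]
      intro v hv w hw e
      by_contra hne'
      have hu : w⁻¹ * v ∈ A := mul_mem (inv_mem hw) hv
      have hu1 : w⁻¹ * v ≠ 1 := fun h => hne' (inv_mul_eq_one.mp h).symm
      refine C.rest_other hG hJ H hq' ?_ (hall _ hu hu1).1
      refine Subgroup.mem_inf.mpr ⟨hu.1, mem_cstab.mpr ⟨Subgroup.le_normalizer hu.1, ?_⟩⟩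
      rw [mul_smul]
      exact inv_smul_eq_iff.mpr e
    have hsub : O ∪ {base C.S, b} ⊆ F := by
      rintro r (⟨v, hv, rfl⟩ | rfl | rfl)
      · show x • v • q' = v • q'
        rw [← mul_smul, ← (mem_cz.mp hv.2).eq, mul_smul, hq'x]
      · exact hbase
      · exact hbx
    have hdis : Disjoint O ({base C.S, b} : Set _) := by
      rw [Set.disjoint_left]
      rintro _ ⟨v, hv, rfl⟩ h
      obtain ⟨h1, h2, h3⟩ := C.rest_smul hq' (Subgroup.le_normalizer hv.1 : v ∈ N₁ C.S)
      rcases h with h | h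
      · exact h1 h
      · rw [Set.mem_singleton_iff] at h
        exact h3 (show v • q' ∈ _ from (show v • q' = b from h) ▸ hb)
    have h6 := Set.ncard_le_ncard hsub
    rw [Set.ncard_union_eq hdis, hO, Set.ncard_pair hne] at h6
    rw [hA4] at hlow
    nlinarith
  · have h3 : 3 ≤ F.ncard := by
      have hsub : ({base C.S, b, q'} : Set _) ⊆ F := by
        rintro r (rfl | rfl | rfl)
        exacts [hbase, hbx, hq'x]
      refine le_trans (le_of_eq (Set.ncard_eq_three.mpr ⟨_, _, _, hne, ?_, ?_, rfl⟩).symm)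
        (Set.ncard_le_ncard hsub)
      · exact fun e => hq'.1 e.symm
      · exact fun e => hq'.2.2 (e ▸ hb)
    have hA8 : 8 ≤ Nat.card ↥A := hkA ▸ (le_trans (by norm_num) (Nat.pow_le_pow_right (by norm_num) hk3))
    nlinarith

theorem not_seven_img : ¬ 7 ∣ (C.kind q).2 := fun h =>
  C.not_seven hG hJ H hq (by rw [C.card_stab]; exact h.trans (dvd_mul_left _ _))

end Ctx

end Cfsg.Agent.Lib.J4Coset48
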