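import Cfsg.Agent.Lib.J4Coset48.Three
import Cfsg.Agent.Lib.J4Coset48.Seven
import Cfsg.Agent.Lib.J4Coset48.Five

/-!
# The seven suborbits
-/

set_option autoImplicit false
set_option linter.unusedSectionVars false

namespace Cfsg.Agent.Lib.J4Coset48

open Cfsg Cfsg.Agent.Lib.LargeExtraspecial.Basic Cfsg.Agent.Lib.J4Local Cfsg.Agent.Lib.J4Big
open Cfsg.Agent.Lib.J4Order
open scoped Classical

/-- The possible image orders are those listed. -/
theorem mem_mList {m : ℕ} (h : m ∣ 244823040) (h7 : ¬ 7 ∣ m) (h27 : ¬ 27 ∣ m) : m ∈ mList := by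
  have hc : Nat.Coprime m 7 :=
    ((Nat.Prime.coprime_iff_not_dvd (by norm_num)).mpr h7).symm
  have h1 : m ∣ 2 ^ 10 * 27 * 5 * 11 * 23 := by
    refine hc.dvd_of_dvd_mul_left ?_
    exact h.trans (dvd_of_eq (by norm_num))
  obtain ⟨x, d, hx, hd, rfl⟩ := Nat.dvd_mul.mp h1
  obtain ⟨y, e, hy, he, rfl⟩ := Nat.dvd_mul.mp hx
  obtain ⟨w, f, hw, hf, rfl⟩ := Nat.dvd_mul.mp hy
  obtain ⟨u, b, hu, hb, rfl⟩ := Nat.dvd_mul.mp hw
  obtain ⟨a, ha, rfl⟩ := (Nat.dvd_prime_pow Nat.prime_two).mp hu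
  have hb' : b = 1 ∨ b = 3 ∨ b = 9 := by
    obtain ⟨i, hi, rfl⟩ := (Nat.dvd_prime_pow Nat.prime_three).mp
      (show b ∣ 3 ^ 3 from hb.trans (dvd_of_eq (by norm_num)))
    interval_cases i
    · simp
    · simp
    · simp
    · exact absurd ⟨2 ^ a * f * e * d, by ring⟩ h27
  have hprime : ∀ {k r : ℕ}, r.Prime → k ∣ r → k = 1 ∨ k = r := fun hr hk =>
    (Nat.dvd_prime hr).mp hk
  simp only [mList, List.mem_flatMap, List.mem_map, List.mem_range, List.mem_cons, List.not_mem_nil,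
    or_false]
  exact ⟨a, by omega, b, hb', f, hprime (by norm_num) hf, e, hprime (by norm_num) he, d,
    hprime (by norm_num) hd, rfl⟩

theorem foldr_min_le {o b : ℕ} : ∀ {l : List ℕ}, o ∈ l → l.foldr min b ≤ o
  | a :: l, h => by
    rcases List.mem_cons.mp h with rfl | h
    · exact Nat.min_le_left _ _
    · exact le_trans (Nat.min_le_right _ _) (foldr_min_le h)

variable {G : Type*} [Group G] [Finite G] {z p : G}

namespace Ctx

variable (C : Ctx z p) [IsSimpleGroup G] (hG : ¬ IsMulCommutative G)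
  (hJ : Cfsg.IsOfJankoFourTypeAt z) {qA qB : G ⧸ N₁ C.S} (H : Neigh C.S qA qB)
include hG hJ H

theorem five_min {a : ↥M24} (hxo : orderOf (C.M.κ a) = 5) {q : G ⧸ N₁ C.S}
    (hq : q ∈ C.rest qA qB) : fiveMin (C.kind q) ≤
      {r : G ⧸ N₁ C.S | C.M.κ a • r = r ∧ r ∈ norb (N₁ C.S) q}.ncard := by
  rw [fiveMin]
  split_ifs with h
  · obtain ⟨-, o, ho, hle⟩ := C.five_kind hG hJ H hq hxo (Nat.dvd_of_mod_eq_zero h)
    exact (foldr_min_le ho).trans hle
  · exact Nat.zero_le _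

theorem kind_ok {q : G ⧸ N₁ C.S} (hq : q ∈ C.rest qA qB) :
    (C.kind q).1 ≤ 10 ∧ (C.kind q).2 ∈ mList ∧ okC (C.kind q) = true := by
  haveI := Fact.mk Nat.prime_five
  haveI := Fintype.ofFinite (G ⧸ N₁ C.S)
  have hdm : (C.kind q).2 ∣ 244823040 := by
    rw [← Golay.card_M24]
    exact Subgroup.card_subgroup_dvd_card _
  refine ⟨C.kind_le hG hJ H hq, mem_mList hdm (C.not_seven_img hG hJ H hq)
    (C.not_twentyseven_img hG H hq), ?_⟩
  have hsub := C.norb_subset hq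
  have hr : osz (C.kind q) ≤ restN := by
    rw [← C.size, ← C.rest_card H]
    exact Set.ncard_le_ncard hsub
  have hk : okk (C.kind q) ≤ restK := by
    have hle := Finset.sum_le_sum_of_subset (f := fun r => Nat.card ↥(tPart C.S r) - 1)
      (Set.toFinset_mono hsub)
    rw [C.rest_sum hG hJ H, Finset.sum_const_nat (m := 2 ^ (C.kind q).1 - 1) (fun r hr => by
      rw [C.card_tPart, C.kind_norb (Set.mem_toFinset.mp hr)]),
      ← Set.ncard_eq_toFinset_card', C.size] at hle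
    rw [okk, mul_comm]
    exact hle
  obtain ⟨a, -, hxo⟩ := C.exists_prime 5 (by norm_num)
  simp only [okC, Bool.and_eq_true, Bool.or_eq_true, Bool.not_eq_true', ← Bool.not_eq_true,
    Nat.beq_eq, Nat.ble_eq]
  refine ⟨⟨⟨⟨⟨⟨?_, hr⟩, hk⟩, ?_⟩, ?_⟩, ?_⟩, ?_⟩
  · have h := Subgroup.card_dvd_of_le (show cstab (N₁ C.S) q ≤ N₁ C.S from inf_le_left)
    rw [C.card_stab, C.cardN] at h
    exact Nat.dvd_iff_mod_eq_zero.mp h
  · refine or_iff_not_imp_left.mpr fun h => ?_
    exact C.twentythree hG hJ H hq (Nat.dvd_of_mod_eq_zero (not_not.mp h))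
  · refine or_iff_not_imp_left.mpr fun h => ?_
    exact C.eleven (Nat.dvd_of_mod_eq_zero (not_not.mp h))
  · by_cases h : (C.kind q).1 = 1
    · exact (C.one_fused hG hJ H hq h).elim
        (fun h' => Or.inl (Or.inr (Nat.dvd_iff_mod_eq_zero.mp h')))
        (fun h' => Or.inr (Nat.dvd_iff_mod_eq_zero.mp h'))
    · exact Or.inl (Or.inl h)
  · refine or_iff_not_imp_left.mpr fun h => ?_
    obtain ⟨hj, o, ho, hle⟩ := C.five_kind hG hJ H hq hxo (Nat.dvd_of_mod_eq_zero (not_not.mp h))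
    refine ⟨hj, List.any_eq_true.mpr ⟨o, ho, ?_⟩⟩
    rw [Nat.ble_eq]
    exact hle.trans ((Set.ncard_le_ncard (t := {r | C.M.κ a • r = r ∧ r ∈ C.rest qA qB})
      fun r hr => ⟨hr.1, hsub hr.2⟩).trans
      (C.five_rest qA qB hxo))

/-- The orbits off the neighbourhood. -/
theorem rest_orbits : ∃ r₁ r₂ r₃ r₄ : G ⧸ N₁ C.S,
    ((norb (N₁ C.S) r₁).ncard = 3400320 ∧ (norb (N₁ C.S) r₂).ncard = 32643072 ∧
      (norb (N₁ C.S) r₃).ncard = 54405120 ∧ (norb (N₁ C.S) r₄).ncard = 82575360) ∧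
    ∀ q ∈ C.rest qA qB, q ∈ norb (N₁ C.S) r₁ ∨ q ∈ norb (N₁ C.S) r₂ ∨
      q ∈ norb (N₁ C.S) r₃ ∨ q ∈ norb (N₁ C.S) r₄ := by
  haveI := Fact.mk Nat.prime_five
  haveI := Fintype.ofFinite (G ⧸ N₁ C.S)
  set R := (C.rest qA qB).toFinset
  set π := fun q : G ⧸ N₁ C.S => (norb (N₁ C.S) q).toFinset with hπ
  set Ω := R.image π with hΩ
  have hrep : ∀ O ∈ Ω, ∃ q, q ∈ C.rest qA qB ∧ π q = O := fun O hO => by
    obtain ⟨q, hq, e⟩ := Finset.mem_image.mp hO
    exact ⟨q, Set.mem_toFinset.mp hq, e⟩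
  choose! rep hrepR hrepπ using hrep
  have hfib : ∀ O ∈ Ω, (R.filter fun q => π q = O) = O := by
    intro O hO
    ext r
    rw [Finset.mem_filter]
    constructor
    · rintro ⟨-, rfl⟩
      exact Set.mem_toFinset.mpr (self_mem_norb r)
    · intro hr
      rw [← hrepπ O hO] at hr ⊢
      have hr' := Set.mem_toFinset.mp hr
      exact ⟨Set.mem_toFinset.mpr (C.norb_subset (hrepR O hO) hr'), by simp only [hπ, norb_eq hr']⟩
  have hsum : ∀ f : G ⧸ N₁ C.S → ℕ, ∑ q ∈ R, f q = ∑ O ∈ Ω, ∑ q ∈ O, f q := fun f => by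
    rw [← Finset.sum_fiberwise_of_maps_to (t := Ω) (g := π)
      (fun q hq => Finset.mem_image_of_mem π hq)]
    exact Finset.sum_congr rfl fun O hO => by rw [hfib O hO]
  have hcard : ∀ O ∈ Ω, O.card = osz (C.kind (rep O)) := fun O hO => by
    rw [← C.size, Set.ncard_eq_toFinset_card']
    exact congrArg Finset.card (hrepπ O hO).symm
  set L := Ω.toList.map fun O => C.kind (rep O) with hL
  obtain ⟨a, -, hxo⟩ := C.exists_prime 5 (by norm_num)
  have hperm := orbits_forced L (fun e he => by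
      obtain ⟨O, hO, rfl⟩ := List.mem_map.mp he
      exact C.kind_ok hG hJ H (hrepR O (Finset.mem_toList.mp hO)))
    (by
      rw [hL, List.map_map, Finset.sum_map_toList, ← C.rest_card H, Set.ncard_eq_toFinset_card',
        Finset.card_eq_sum_ones, hsum]
      exact Finset.sum_congr rfl fun O hO => by
        rw [← Finset.card_eq_sum_ones, hcard O hO, Function.comp_apply])
    (by
      rw [hL, List.map_map, Finset.sum_map_toList, ← C.rest_sum hG hJ H, hsum]
      refine Finset.sum_congr rfl fun O hO => ?_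
      rw [Finset.sum_const_nat (m := 2 ^ (C.kind (rep O)).1 - 1), hcard O hO]
      · simp only [Function.comp_apply, okk]
        exact mul_comm _ _
      · intro r hr
        rw [← hrepπ O hO] at hr
        rw [C.card_tPart, C.kind_norb (Set.mem_toFinset.mp hr)])
    (by
      rw [hL, List.map_map, Finset.sum_map_toList]
      have hF : {q : G ⧸ N₁ C.S | C.M.κ a • q = q ∧ q ∈ C.rest qA qB}.ncard =
          ∑ q ∈ R, if C.M.κ a • q = q then 1 else 0 := by
        rw [← Finset.card_filter, Set.ncard_eq_toFinset_card']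
        congr 1
        ext q
        simp only [R, Finset.mem_filter, Set.mem_toFinset, Set.mem_ofPred_eq]
        exact and_comm
      have hle := C.five_rest qA qB hxo
      rw [hF, hsum] at hle
      refine le_trans ?_ hle
      refine Finset.sum_le_sum fun O hO => ?_
      rw [← Finset.card_filter]
      refine (C.five_min hG hJ H hxo (hrepR O hO)).trans (le_of_eq ?_)
      rw [Set.ncard_eq_toFinset_card']
      congr 1
      ext r
      have hr : r ∈ O ↔ r ∈ norb (N₁ C.S) (rep O) := by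
        conv_lhs => rw [← hrepπ O hO]
        exact Set.mem_toFinset
      simp only [Finset.mem_filter, Set.mem_toFinset, Set.mem_ofPred_eq, hr]
      exact and_comm)
  have hcard4 : Ω.card = 4 := by
    have h := hperm.length_eq
    rwa [hL, List.length_map, Finset.length_toList] at h
  have hget : ∀ c ∈ target, ∃ O ∈ Ω, O.card = osz c := fun c hc => by
    obtain ⟨O, hO, e⟩ := List.mem_map.mp (hperm.mem_iff.mpr hc)
    exact ⟨O, Finset.mem_toList.mp hO, e ▸ hcard O (Finset.mem_toList.mp hO)⟩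
  obtain ⟨O₁, h₁, e₁⟩ := hget (4, 9216) (by simp [target])
  obtain ⟨O₂, h₂, e₂⟩ := hget (1, 7680) (by simp [target])
  obtain ⟨O₃, h₃, e₃⟩ := hget (0, 9216) (by simp [target])
  obtain ⟨O₄, h₄, e₄⟩ := hget (0, 6072) (by simp [target])
  have ht := target_sizes
  simp only [target, List.map_cons, List.map_nil, List.cons.injEq, and_true] at ht
  obtain ⟨t₁, t₂, t₃, t₄⟩ := ht
  rw [t₁] at e₁
  rw [t₂] at e₂
  rw [t₃] at e₃
  rw [t₄] at e₄
  have hall : Ω = {O₁, O₂, O₃, O₄} := by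
    refine (Finset.eq_of_subset_of_card_le ?_ ?_).symm
    · simp [Finset.insert_subset_iff, h₁, h₂, h₃, h₄]
    · have n12 : O₁ ≠ O₂ := fun e => by rw [e, e₂] at e₁; omega
      have n13 : O₁ ≠ O₃ := fun e => by rw [e, e₃] at e₁; omega
      have n14 : O₁ ≠ O₄ := fun e => by rw [e, e₄] at e₁; omega
      have n23 : O₂ ≠ O₃ := fun e => by rw [e, e₃] at e₂; omega
      have n24 : O₂ ≠ O₄ := fun e => by rw [e, e₄] at e₂; omega
      have n34 : O₃ ≠ O₄ := fun e => by rw [e, e₄] at e₃; omega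
      simp [hcard4, n12, n13, n14, n23, n24, n34]
  have hsz : ∀ O ∈ Ω, (norb (N₁ C.S) (rep O)).ncard = O.card := fun O hO => by
    rw [C.size, hcard O hO]
  refine ⟨rep O₁, rep O₂, rep O₃, rep O₄, ⟨(hsz _ h₁).trans e₁, (hsz _ h₂).trans e₂,
    (hsz _ h₃).trans e₃, (hsz _ h₄).trans e₄⟩, fun q hq => ?_⟩
  have hmem : π q ∈ Ω := Finset.mem_image_of_mem π (Set.mem_toFinset.mpr hq)
  have key : ∀ O ∈ Ω, π q = O → q ∈ norb (N₁ C.S) (rep O) := fun O hO e => by
    have : q ∈ π (rep O) := by rw [hrepπ O hO, ← e]; exact Set.mem_toFinset.mpr (self_mem_norb q)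
    exact Set.mem_toFinset.mp this
  rw [hall] at hmem
  simp only [Finset.mem_insert, Finset.mem_singleton] at hmem
  rcases hmem with e | e | e | e
  exacts [Or.inl (key _ h₁ e), Or.inr (Or.inl (key _ h₂ e)), Or.inr (Or.inr (Or.inl (key _ h₃ e))),
    Or.inr (Or.inr (Or.inr (key _ h₄ e)))]

omit H in
/-- The seven orbits of the normaliser on its cosets. -/
theorem rank_seven : ∃ c : Fin 7 → G ⧸ N₁ C.S,
    (∀ q, ∃ i, q ∈ MulAction.orbit ↥(N₁ C.S) (c i)) ∧
    (List.ofFn fun i => (MulAction.orbit ↥(N₁ C.S) (c i)).ncard) =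
      [1, 15180, 28336, 3400320, 32643072, 54405120, 82575360] := by
  obtain ⟨qA, qB, H⟩ := exists_neigh hG C.S
  obtain ⟨r₁, r₂, r₃, r₄, ⟨s₁, s₂, s₃, s₄⟩, hcov⟩ := C.rest_orbits hG hJ H
  have hb : norb (N₁ C.S) (base C.S) = {base C.S} := by
    ext q
    constructor
    · intro h
      obtain ⟨n, hn, rfl⟩ := mem_norb.mp h
      exact mk_one_smul C.S hn
    · rintro rfl
      exact self_mem_norb _
  refine ⟨![base C.S, qB, qA, r₁, r₂, r₃, r₄], fun q => ?_, ?_⟩
  · by_cases h0 : q = base C.S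
    · exact ⟨0, h0 ▸ self_mem_norb _⟩
    by_cases h1 : q ∈ norb (N₁ C.S) qB
    · exact ⟨1, h1⟩
    by_cases h2 : q ∈ norb (N₁ C.S) qA
    · exact ⟨2, h2⟩
    rcases hcov q ⟨h0, h2, h1⟩ with h | h | h | h
    exacts [⟨3, h⟩, ⟨4, h⟩, ⟨5, h⟩, ⟨6, h⟩]
  · simp only [List.ofFn_succ, List.ofFn_zero]
    show [(norb (N₁ C.S) (base C.S)).ncard, (norb (N₁ C.S) qB).ncard, (norb (N₁ C.S) qA).ncard,
      (norb (N₁ C.S) r₁).ncard, (norb (N₁ C.S) r₂).ncard, (norb (N₁ C.S) r₃).ncard,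
      (norb (N₁ C.S) r₄).ncard] = _
    rw [hb, Set.ncard_singleton, H.sizeB, H.sizeA, s₁, s₂, s₃, s₄]

end Ctx

end Cfsg.Agent.Lib.J4Coset48
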