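import Cfsg.Agent.Lib.J4Big.RowS5568
import Cfsg.Agent.Lib.J4Coset48.NbrData

/-!
# The other hexad type subgroups under the stabiliser of one
-/

set_option autoImplicit false
set_option linter.unusedSectionVars false

namespace Cfsg.Agent.Lib.J4Coset48.NbrCert

open Cfsg Cfsg.Agent.Lib.J4Local Cfsg.Agent.Lib.J4Big Cfsg.Agent.Lib.J4Big.Codes
open Cfsg.Agent.Lib.J4Big.Cert2 (Uh U0)

/-- The representatives. -/
def rep (j : ℕ) : ℕ × ℕ := Data2.hRep.getD j (0, 0)

/-- One orbit row. -/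
def rowOk (i : ℕ) (r : ℕ × ℕ × ℕ) : Bool :=
  Nat.blt r.1 77 && pairOk r.2 && Data.uhL.all (fun a => mem Data.uhL (cj r.2 a)) &&
    Nat.beq (keyOf2 r.2 (rep i) Data.uhL) (keyOf (rep r.1) Data.uhL)

/-- The number of elements normalising a representative. -/
def nst (j : ℕ) : ℕ :=
  (Data.uhL.filter fun a =>
    Nat.beq (keyOf2 (a, a) (rep j) Data.uhL) (keyOf (rep j) Data.uhL)).length

/-- A duad type subgroup normalised by the subgroup and by its conjugate. -/
def both (j d : ℕ) : Bool :=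
  Cert2.fixTest d && Data.uhL.all fun a =>
    Nat.beq (keyOf2 (cj (rep j) a, cj (rep j) a) (Data2.dRep.getD d (0, 0)) Data.u0L)
      (keyOf (Data2.dRep.getD d (0, 0)) Data.u0L)

/-- All the checks. -/
def nbrOk : Bool :=
  distinct ((List.range 77).map fun j => keyOf (rep j) Data.uhL) &&
  NbrData.orbA.all (rowOk NbrData.idxA) && NbrData.orbB.all (rowOk NbrData.idxB) &&
  distinct (NbrData.orbA.map (·.1)) && distinct (NbrData.orbB.map (·.1)) &&
  Nat.beq NbrData.orbA.length 16 && Nat.beq NbrData.orbB.length 60 &&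
  ((List.range 77).all fun j => Nat.beq j 0 || mem (NbrData.orbA.map (·.1)) j ||
    mem (NbrData.orbB.map (·.1)) j) &&
  Nat.beq (nst 0) 16 && Nat.beq (nst NbrData.idxA) 1 && Nat.beq (nst NbrData.idxB) 4 &&
  Nat.blt NbrData.idxA 77 && Nat.blt NbrData.idxB 77 &&
  ((List.range 77).all fun j => Data.uhL.all fun a => pairOk (cj (rep j) a, cj (rep j) a)) &&
  Nat.beq ((List.range 231).filter (both NbrData.idxA)).length 0 &&
  Nat.beq ((List.range 231).filter (both NbrData.idxB)).length 1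

theorem nbrOk_eq : nbrOk = true := by decide +kernel

theorem rep_pair {j : ℕ} (hj : j < 77) : pairOk (rep j) = true := by
  have h := Cert2.hCover_ok
  have hl := Cert2.lens_ok
  simp only [Bool.and_eq_true, Nat.beq_eq] at hl
  simp only [coverOk, Bool.and_eq_true, List.all_eq_true] at h
  exact getD_ok h.1.1.1.1 (by omega)

/-- The representative subgroup. -/
noncomputable abbrev hex (j : ℕ) : Subgroup AutM22 := rmc Data2.hRep Uh j

theorem hex_zero : hex 0 = Uh := by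
  have h := Cert2.hCover_ok
  simp only [coverOk, Bool.and_eq_true, Nat.beq_eq] at h
  rw [hex, rmc, h.1.2, au_one, mc_one]

theorem hex_inj {i j : ℕ} (hi : i < 77) (hj : j < 77) (h : hex i = hex j) : i = j := by
  have hk := nbrOk_eq
  simp only [nbrOk, Bool.and_eq_true] at hk
  have hn := distinct_iff hk.1.1.1.1.1.1.1.1.1.1.1.1.1.1.1
  have e : keyOf (rep i) Data.uhL = keyOf (rep j) Data.uhL :=
    key_eq Cert2.uh_closed (rep_pair hi) (rep_pair hj) h
  have := List.inj_on_of_nodup_map hn (List.mem_range.mpr hi) (List.mem_range.mpr hj) e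
  exact this

theorem mc_hex_of_key {q : ℕ × ℕ} (hq : pairOk q = true) {i t : ℕ} (hi : i < 77) (ht : t < 77)
    (h : keyOf2 q (rep i) Data.uhL = keyOf (rep t) Data.uhL) : mc (au q.1) (hex i) = hex t := by
  obtain ⟨s, hs, e⟩ := Cert2.hRep_cover (au q.1 * au (rep i).1)
  rw [mc_mul] at e
  have hk := key2_eq Cert2.uh_closed hq (rep_pair hi) (rep_pair hs) e
  rw [h] at hk
  have hn := nbrOk_eq
  simp only [nbrOk, Bool.and_eq_true] at hn
  have := List.inj_on_of_nodup_map (distinct_iff hn.1.1.1.1.1.1.1.1.1.1.1.1.1.1.1)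
    (List.mem_range.mpr ht) (List.mem_range.mpr hs) hk
  subst this
  exact e

theorem row_spec {i : ℕ} (hi : i < 77) {r : ℕ × ℕ × ℕ} (h : rowOk i r = true) :
    r.1 < 77 ∧ ∃ n ∈ Subgroup.normalizer (Uh : Set AutM22), mc n (hex i) = hex r.1 := by
  simp only [rowOk, Bool.and_eq_true, Nat.blt_eq, Nat.beq_eq, List.all_eq_true, mem_iff] at h
  obtain ⟨⟨⟨ht, hp⟩, hn⟩, hk⟩ := h
  refine ⟨ht, au r.2.1, mem_normalizer_of_mc ?_, mc_hex_of_key hp hi ht hk⟩
  refine Subgroup.eq_of_le_of_card_ge ?_ (le_of_eq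
    (Subgroup.card_map_of_injective (MulAut.conj _).injective).symm)
  rintro _ ⟨u, hu, rfl⟩
  obtain ⟨c, hc, hcu⟩ := (grpL_rep Cert2.uh_closed).mp hu
  exact (grpL_rep Cert2.uh_closed).mpr ⟨_, hn c hc, rep_cj hp hcu⟩

theorem nst_eq {j : ℕ} (hj : j < 77) :
    Nat.card ↥(Uh ⊓ Subgroup.normalizer (hex j : Set AutM22)) = nst j := by
  classical
  have hok := Cert2.uh_inv_ok
  rw [List.all_eq_true] at hok
  obtain ⟨hg, hnd, -, -⟩ := closedL_spec Cert2.uh_closed
  set L := Data.uhL.filter fun a => Nat.beq (keyOf2 (a, a) (rep j) Data.uhL) (keyOf (rep j) Data.uhL)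
  have hL : ((Uh ⊓ Subgroup.normalizer (hex j : Set AutM22) : Subgroup AutM22) : Set AutM22) = setL L := by
    ext x
    constructor
    · rintro ⟨hx, hn⟩
      obtain ⟨a, ha, rfl⟩ := (mem_grpL Cert2.uh_closed).mp hx
      refine ⟨a, List.mem_filter.mpr ⟨ha, ?_⟩, rfl⟩
      rw [Nat.beq_eq]
      exact key2_eq Cert2.uh_closed (hok a ha) (rep_pair hj) (rep_pair hj) (mc_eq_self hn)
    · rintro ⟨a, ha, rfl⟩
      rw [List.mem_filter, Nat.beq_eq] at ha
      exact ⟨(mem_grpL Cert2.uh_closed).mpr ⟨a, ha.1, rfl⟩,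
        mem_normalizer_of_mc (mc_hex_of_key (hok a ha.1) hj hj ha.2)⟩
  rw [← SetLike.coe_sort_coe, Nat.card_coe_set_eq, hL,
    ncard_setL (fun a ha => hg a (List.mem_of_mem_filter ha)) (hnd.filter _)]
  rfl

theorem both_ncard {j : ℕ} (hj : j < 77) :
    Set.ncard {U' : Subgroup AutM22 | (∃ g : AutM22, U' = U0.map (MulAut.conj g).toMonoidHom) ∧
      Uh ≤ Subgroup.normalizer (U' : Set AutM22) ∧ hex j ≤ Subgroup.normalizer (U' : Set AutM22)} =
      ((List.range 231).filter (both j)).length := by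
  classical
  have hok := nbrOk_eq
  simp only [nbrOk, Bool.and_eq_true, List.all_eq_true, List.mem_range] at hok
  have hcp := hok.1.1.2 j hj
  have key : ∀ d < 231, (Uh ≤ Subgroup.normalizer (rmc Data2.dRep U0 d : Set AutM22) ∧
      hex j ≤ Subgroup.normalizer (rmc Data2.dRep U0 d : Set AutM22)) ↔ both j d = true := by
    intro d hd
    simp only [both, Bool.and_eq_true, List.all_eq_true, Nat.beq_eq, ← Cert2.fixTest_iff hd]
    refine and_congr_right fun _ => ⟨fun h a ha => ?_, fun h x hx => ?_⟩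
    · refine key2_eq Cert.u0_ok (hcp a ha) (Cert2.dRep_pair hd) (Cert2.dRep_pair hd) (mc_eq_self (h ?_))
      have hr := rep_cj (rep_pair hj) (rep_good ((closedL_spec Cert2.uh_closed).1 a ha))
      rw [rep_val (pairOk_spec (hcp a ha)).1 hr]
      exact ⟨_, (mem_grpL Cert2.uh_closed).mpr ⟨a, ha, rfl⟩, rfl⟩
    · obtain ⟨u, hu, rfl⟩ := hx
      obtain ⟨a, ha, rfl⟩ := (mem_grpL Cert2.uh_closed).mp hu
      have hr := rep_cj (rep_pair hj) (rep_good ((closedL_spec Cert2.uh_closed).1 a ha))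
      show au (rep j).1 * au a * (au (rep j).1)⁻¹ ∈ _
      rw [← rep_val (pairOk_spec (hcp a ha)).1 hr]
      refine mem_normalizer_of_mc ?_
      obtain ⟨t, ht, e⟩ := Cert2.dRep_cover (au (cj (rep j) a) * au (Data2.dRep.getD d (0, 0)).1)
      rw [mc_mul] at e
      have hk := key2_eq Cert.u0_ok (hcp a ha) (Cert2.dRep_pair hd) (Cert2.dRep_pair ht) e
      rw [h a ha] at hk
      exact e.trans (congrArg _ (Cert2.dRep_inj hd ht hk).symm)
  set s := ((List.range 231).filter (both j)).toFinset with hs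
  have hset : {U' : Subgroup AutM22 | (∃ g : AutM22, U' = U0.map (MulAut.conj g).toMonoidHom) ∧
      Uh ≤ Subgroup.normalizer (U' : Set AutM22) ∧ hex j ≤ Subgroup.normalizer (U' : Set AutM22)} =
        (s.image (rmc Data2.dRep U0) : Finset (Subgroup AutM22)) := by
    ext U'
    simp only [Set.mem_ofPred_eq, Finset.coe_image, Set.mem_image, Finset.mem_coe, hs,
      List.mem_toFinset, List.mem_filter, List.mem_range]
    constructor
    · rintro ⟨⟨g, rfl⟩, hn⟩
      obtain ⟨d, hd, e⟩ := Cert2.dRep_cover g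
      rw [show U0.map (MulAut.conj g).toMonoidHom = mc g U0 from rfl, e] at hn ⊢
      exact ⟨d, ⟨hd, (key d hd).mp hn⟩, rfl⟩
    · rintro ⟨d, ⟨hd, hf⟩, rfl⟩
      exact ⟨⟨_, rfl⟩, (key d hd).mpr hf⟩
  rw [hset, Set.ncard_coe_finset, Finset.card_image_of_injOn, hs,
    List.toFinset_card_of_nodup (List.nodup_range.filter _)]
  intro a ha b hb h
  simp only [hs, Finset.mem_coe, List.mem_toFinset, List.mem_filter, List.mem_range] at ha hb
  exact Cert2.rmc_inj ha.1 hb.1 h

/-- The conjugates of a subgroup under the stabiliser of the first. -/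
def suborb (X : Subgroup AutM22) : Set (Subgroup AutM22) :=
  {Y | ∃ n ∈ Subgroup.normalizer (Uh : Set AutM22), Y = mc n X}

theorem card_stab_invariant {n : AutM22} (hn : n ∈ Subgroup.normalizer (Uh : Set AutM22))
    (X : Subgroup AutM22) : Nat.card ↥(Uh ⊓ Subgroup.normalizer (mc n X : Set AutM22)) =
      Nat.card ↥(Uh ⊓ Subgroup.normalizer (X : Set AutM22)) := by
  have e : Uh ⊓ Subgroup.normalizer (mc n X : Set AutM22) =
      (Uh ⊓ Subgroup.normalizer (X : Set AutM22)).map (MulAut.conj n).toMonoidHom := by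
    rw [Subgroup.map_inf_eq _ _ _ (MulAut.conj n).injective]
    congr 1
    · exact (mc_eq_self hn).symm
    · ext x
      rw [Subgroup.mem_map_equiv, MulAut.conj_symm_apply, mc, mem_normalizer_map]
  rw [e, Subgroup.card_map_of_injective (MulAut.conj n).injective]

/-- The two suborbits. -/
theorem two_suborbits : ∃ gA gB : AutM22,
    ((suborb (mc gA Uh)).ncard = 16 ∧ (suborb (mc gB Uh)).ncard = 60) ∧
    (∀ g, mc g Uh = Uh ∨ mc g Uh ∈ suborb (mc gA Uh) ∨ mc g Uh ∈ suborb (mc gB Uh)) ∧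
    Nat.card ↥(Uh ⊓ Subgroup.normalizer (mc gA Uh : Set AutM22)) = 1 ∧
    Nat.card ↥(Uh ⊓ Subgroup.normalizer (mc gB Uh : Set AutM22)) = 4 ∧
    Set.ncard {U' : Subgroup AutM22 | (∃ g : AutM22, U' = U0.map (MulAut.conj g).toMonoidHom) ∧
      Uh ≤ Subgroup.normalizer (U' : Set AutM22) ∧
      mc gA Uh ≤ Subgroup.normalizer (U' : Set AutM22)} = 0 ∧
    Set.ncard {U' : Subgroup AutM22 | (∃ g : AutM22, U' = U0.map (MulAut.conj g).toMonoidHom) ∧
      Uh ≤ Subgroup.normalizer (U' : Set AutM22) ∧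
      mc gB Uh ≤ Subgroup.normalizer (U' : Set AutM22)} = 1 := by
  classical
  have hok := nbrOk_eq
  simp only [nbrOk, Bool.and_eq_true, List.all_eq_true, List.mem_range, Nat.beq_eq, Nat.blt_eq,
    Bool.or_eq_true, mem_iff] at hok
  obtain ⟨⟨⟨⟨⟨⟨⟨⟨⟨⟨⟨⟨⟨⟨⟨-, hA⟩, hB⟩, dA⟩, dB⟩, lA⟩, lB⟩, hcov⟩, n0⟩, nA⟩, nB⟩, iA⟩, iB⟩, -⟩, bA⟩, bB⟩ := hok
  have hnstA := nst_eq iA
  have hnstB := nst_eq iB
  rw [nA] at hnstA
  rw [nB] at hnstB
  have hz := nst_eq (show 0 < 77 by norm_num)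
  rw [n0] at hz
  have hcover : ∀ t < 77, hex t = Uh ∨ (t ∈ NbrData.orbA.map (·.1) ∧ hex t ∈ suborb (hex NbrData.idxA)) ∨
      (t ∈ NbrData.orbB.map (·.1) ∧ hex t ∈ suborb (hex NbrData.idxB)) := by
    intro t ht
    rcases hcov t ht with (h | h) | h
    · exact Or.inl (h ▸ hex_zero)
    · refine Or.inr (Or.inl ⟨h, ?_⟩)
      obtain ⟨r, hr, rfl⟩ := List.mem_map.mp h
      obtain ⟨-, n, hn, e⟩ := row_spec iA (hA r hr)
      exact ⟨n, hn, e.symm⟩
    · refine Or.inr (Or.inr ⟨h, ?_⟩)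
      obtain ⟨r, hr, rfl⟩ := List.mem_map.mp h
      obtain ⟨-, n, hn, e⟩ := row_spec iB (hB r hr)
      exact ⟨n, hn, e.symm⟩
  have horb : ∀ (i m : ℕ) (L : List (ℕ × ℕ × ℕ)), (∀ r ∈ L, rowOk i r = true) → i < 77 →
      (L.map (·.1)).Nodup → (∀ n ∈ Subgroup.normalizer (Uh : Set AutM22), ∀ t < 77,
        mc n (hex i) = hex t → t ∈ L.map (·.1)) → L.length = m → (suborb (hex i)).ncard = m := by
    intro i m L hL hi hnd hsub hlen
    have e : suborb (hex i) = ↑((L.map (·.1)).toFinset.image hex) := by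
      ext X
      simp only [Finset.coe_image, Set.mem_image, Finset.mem_coe, List.mem_toFinset]
      constructor
      · rintro ⟨n, hn, rfl⟩
        obtain ⟨t, ht, et⟩ := Cert2.hRep_cover (n * au (rep i).1)
        rw [mc_mul] at et
        exact ⟨t, hsub n hn t ht et, et.symm⟩
      · rintro ⟨t, ht, rfl⟩
        obtain ⟨r, hr, rfl⟩ := List.mem_map.mp ht
        obtain ⟨-, n, hn, e⟩ := row_spec hi (hL r hr)
        exact ⟨n, hn, e.symm⟩
    rw [e, Set.ncard_coe_finset, Finset.card_image_of_injOn, List.toFinset_card_of_nodup hnd,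
      List.length_map, hlen]
    intro a ha b hb hab
    simp only [Finset.mem_coe, List.mem_toFinset] at ha hb
    obtain ⟨r, hr, rfl⟩ := List.mem_map.mp ha
    obtain ⟨s, hs, rfl⟩ := List.mem_map.mp hb
    exact hex_inj (row_spec hi (hL r hr)).1 (row_spec hi (hL s hs)).1 hab
  have hval : ∀ {i t : ℕ} {n : AutM22}, n ∈ Subgroup.normalizer (Uh : Set AutM22) →
      mc n (hex i) = hex t →
      Nat.card ↥(Uh ⊓ Subgroup.normalizer (hex t : Set AutM22)) =
        Nat.card ↥(Uh ⊓ Subgroup.normalizer (hex i : Set AutM22)) := fun {i t n} hn e => by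
    rw [← e, card_stab_invariant hn]
  have hsame : ∀ {i t : ℕ}, hex t ∈ suborb (hex i) →
      Nat.card ↥(Uh ⊓ Subgroup.normalizer (hex t : Set AutM22)) =
        Nat.card ↥(Uh ⊓ Subgroup.normalizer (hex i : Set AutM22)) := fun {i t} ⟨n, hn, e⟩ =>
    hval hn e.symm
  have hzero : ∀ {t : ℕ}, hex t = Uh →
      Nat.card ↥(Uh ⊓ Subgroup.normalizer (hex t : Set AutM22)) = 16 := fun {t} e => by
    rw [e, ← hex_zero]
    rwa [hex_zero] at hz ⊢
  refine ⟨au (rep NbrData.idxA).1, au (rep NbrData.idxB).1,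
    ⟨horb _ 16 _ hA iA (distinct_iff dA) ?_ lA, horb _ 60 _ hB iB (distinct_iff dB) ?_ lB⟩,
    fun g => ?_, hnstA, hnstB, (both_ncard iA).trans bA, (both_ncard iB).trans bB⟩
  · intro n hn t ht e
    have hv := (hval hn e).trans hnstA
    rcases hcover t ht with h | ⟨h, -⟩ | ⟨-, h⟩
    · rw [hzero h] at hv; omega
    · exact h
    · rw [hsame h, hnstB] at hv; omega
  · intro n hn t ht e
    have hv := (hval hn e).trans hnstB
    rcases hcover t ht with h | ⟨-, h⟩ | ⟨h, -⟩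
    · rw [hzero h] at hv; omega
    · rw [hsame h, hnstA] at hv; omega
    · exact h
  · obtain ⟨t, ht, e⟩ := Cert2.hRep_cover g
    rcases hcover t ht with h | ⟨-, h⟩ | ⟨-, h⟩
    · exact Or.inl (e.trans h)
    · exact Or.inr (Or.inl (e ▸ h))
    · exact Or.inr (Or.inr (e ▸ h))

end Cfsg.Agent.Lib.J4Coset48.NbrCert
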