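import Cfsg.Agent.Lib.J4Coset48.Fix
import Cfsg.Agent.Lib.J4Coset48.NbrCert
import Cfsg.Agent.Lib.J4Local.AutFacts

/-!
# The cosets whose `2^11` meets the base one
-/

set_option autoImplicit false
set_option linter.unusedSectionVars false

namespace Cfsg.Agent.Lib.J4Coset48

open Cfsg Cfsg.Agent.Lib.LargeExtraspecial.Basic Cfsg.Agent.Lib.J4Local Cfsg.Agent.Lib.J4Big
open Cfsg.Agent.Lib.J4Big.Codes (mc mem_mc mc_one mc_mul mc_eq_self mem_normalizer_of_mc)
open Cfsg.Agent.Lib.J4Big.Cert2 (Uh U0)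
open scoped Classical

variable {G : Type*} [Group G] [Finite G] {z p : G}

/-- The configuration of the hexad type subgroup. -/
theorem bigC : BigConfig (Subgroup.closure (Codes.setL Data.tGens)) Uh U0 := Cert2.normConfig.toBigConfig

/-- The standard `2^11`. -/
noncomputable abbrev V₁ (S : Setting z p) : Subgroup G := vv S bigC

/-- Its normaliser. -/
noncomputable abbrev N₁ (S : Setting z p) : Subgroup G := Subgroup.normalizer (V₁ S : Set G)

/-- The part of the `2^11` fixing a coset. -/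
noncomputable def tPart (S : Setting z p) (q : G ⧸ N₁ S) : Subgroup G := V₁ S ⊓ cstab (N₁ S) q

/-- The `2^11` of a coset contains an element. -/
def InW (S : Setting z p) (q : G ⧸ N₁ S) (v : G) : Prop :=
  ∃ g : G, QuotientGroup.mk g = q ∧ g⁻¹ * v * g ∈ V₁ S

theorem inW_mk (S : Setting z p) (g v : G) :
    InW S (QuotientGroup.mk g) v ↔ g⁻¹ * v * g ∈ V₁ S := by
  constructor
  · rintro ⟨h, e, hv⟩
    have hn : g⁻¹ * h ∈ N₁ S := QuotientGroup.eq.mp e.symm
    have := (Subgroup.mem_normalizer_iff.mp hn (h⁻¹ * v * h)).mp hv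
    rwa [show g⁻¹ * h * (h⁻¹ * v * h) * (g⁻¹ * h)⁻¹ = g⁻¹ * v * g by group] at this
  · exact fun h => ⟨g, rfl, h⟩

theorem inW_smul (S : Setting z p) (n : G) (q : G ⧸ N₁ S) (v : G) :
    InW S (n • q) (n * v * n⁻¹) ↔ InW S q v := by
  obtain ⟨g, rfl⟩ := QuotientGroup.mk_surjective q
  rw [show n • (QuotientGroup.mk g : G ⧸ N₁ S) = QuotientGroup.mk (n * g) from rfl, inW_mk, inW_mk,
    show (n * g)⁻¹ * (n * v * n⁻¹) * (n * g) = g⁻¹ * v * g by group]

theorem mk_one_smul (S : Setting z p) {n : G} (hn : n ∈ N₁ S) :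
    n • (QuotientGroup.mk 1 : G ⧸ N₁ S) = QuotientGroup.mk 1 :=
  (smul_mk n 1).mpr (by simpa using hn)

section
variable [IsSimpleGroup G] (hG : ¬ IsMulCommutative G) (S : Setting z p)
include hG

theorem fusedE (S : Setting z p) : ∃ e ∈ Q z, IsConj z e ∧ e ≠ z := S.exists_fused hG autFacts

/-- An element of the 276 lies in one conjugate only. -/
theorem eq_base_of_dV {q : G ⧸ N₁ S} {t : G} (ht : t ∈ dV S bigC) (h : InW S q t)
    (hcent : cz t ≤ N₁ S) : q = QuotientGroup.mk 1 := by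
  obtain ⟨g, rfl⟩ := QuotientGroup.mk_surjective q
  rw [inW_mk] at h
  have hd : g⁻¹ * t * g ∈ dV S bigC := ⟨h, fun e => ht.2.1 (by
      have := congrArg (fun x => g * x * g⁻¹) e
      simpa [mul_assoc] using this),
    fun e => ht.2.2 (e.trans (isConj_iff.mpr ⟨g, by group⟩))⟩
  obtain ⟨n, hn, e⟩ := trans_dV S autFacts Cert2.normConfig (fusedE hG S) ht hd
  have hgn : g * n ∈ N₁ S := hcent (mem_cz.mpr (by
    show g * n * t = t * (g * n)
    calc g * n * t = g * (n * t * n⁻¹) * n := by group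
      _ = _ := by rw [e]; group))
  rw [QuotientGroup.eq, mul_one]
  have := mul_mem hgn (inv_mem hn)
  simpa using inv_mem this

omit hG in
/-- The cosets over `z` come from the centraliser of `z`. -/
theorem exists_mk_of_inW {q : G ⧸ N₁ S} (h : InW S q z) :
    ∃ c ∈ cz z, QuotientGroup.mk c = q := by
  obtain ⟨g, rfl⟩ := QuotientGroup.mk_surjective q
  rw [inW_mk] at h
  obtain ⟨n, hn, e⟩ := fusion_vv S autFacts bigC (z_mem_vv S bigC) h
    (isConj_iff.mpr ⟨g⁻¹, by group⟩)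
  refine ⟨g * n, mem_cz.mpr ?_, ?_⟩
  · show g * n * z = z * (g * n)
    calc g * n * z = g * (n * z * n⁻¹) * n := by group
      _ = _ := by rw [e]; group
  · exact QuotientGroup.eq.mpr (by simpa using inv_mem hn)

omit hG in
theorem inW_of_cz {c : G} (hc : c ∈ cz z) : InW S (QuotientGroup.mk c) z :=
  (inW_mk S c z).mpr (by
    rw [show c⁻¹ * z * c = z by rw [mul_assoc, ← (mem_cz.mp hc).eq, inv_mul_cancel_left]]
    exact z_mem_vv S bigC)

omit hG in
theorem mk_eq_mk_iff {c d : G} (hc : c ∈ cz z) (hd : d ∈ cz z) :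
    (QuotientGroup.mk c : G ⧸ N₁ S) = QuotientGroup.mk d ↔ mc (S.img c) Uh = mc (S.img d) Uh := by
  rw [QuotientGroup.eq]
  have hm : c⁻¹ * d ∈ cz z := mul_mem (inv_mem hc) hd
  have himg : S.img (c⁻¹ * d) = (S.img c)⁻¹ * S.img d := by
    rw [S.img_mul (inv_mem hc) hd, S.img_inv hc]
  constructor
  · intro h
    have h' : c⁻¹ * d ∈ mSt S Uh := normalizer_inf_cz S autFacts bigC ▸ ⟨h, hm⟩
    have h2 := mc_eq_self ((mem_mSt S).mp h').2
    rw [himg] at h2
    conv_lhs => rw [← h2]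
    rw [← mc_mul, mul_inv_cancel_left]
  · intro h
    refine mSt_le_normalizer S autFacts bigC ((mem_mSt S).mpr ⟨hm, ?_⟩)
    rw [himg]
    refine mem_normalizer_of_mc ?_
    rw [mc_mul, ← h, ← mc_mul, inv_mul_cancel, mc_one]

omit hG in
theorem mem_tPart {c : G} (hc : c ∈ cz z) {v : G} :
    v ∈ tPart S (QuotientGroup.mk c) ↔
      v ∈ V₁ S ∧ S.img v ∈ Uh ⊓ Subgroup.normalizer (mc (S.img c) Uh : Set AutM22) := by
  obtain ⟨-, -, hcz⟩ := vv_facts S autFacts bigC
  have key : ∀ {v}, v ∈ V₁ S → (c⁻¹ * v * c ∈ N₁ S ↔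
      S.img v ∈ Subgroup.normalizer (mc (S.img c) Uh : Set AutM22)) := by
    intro v hv
    have hvc := hcz hv
    have hcc : c⁻¹ * v * c ∈ cz z := mul_mem (mul_mem (inv_mem hc) hvc) hc
    rw [mc, mem_normalizer_map,
      show (S.img c)⁻¹ * S.img v * S.img c = S.img (c⁻¹ * v * c) by
        rw [S.img_mul (mul_mem (inv_mem hc) hvc) hc, S.img_mul (inv_mem hc) hvc, S.img_inv hc]]
    constructor
    · intro h
      exact ((mem_mSt S).mp (normalizer_inf_cz S autFacts bigC ▸ ⟨h, hcc⟩ : c⁻¹ * v * c ∈ mSt S Uh)).2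
    · exact fun h => mSt_le_normalizer S autFacts bigC ((mem_mSt S).mpr ⟨hcc, h⟩)
  constructor
  · rintro ⟨hv, -, hq⟩
    exact ⟨hv, img_mem_Uh S autFacts bigC hv, (key hv).mp ((smul_mk v c).mp hq)⟩
  · rintro ⟨hv, -, hn⟩
    exact ⟨hv, Subgroup.le_normalizer hv, (smul_mk v c).mpr ((key hv).mpr hn)⟩

theorem fibre_counts {u : AutM22} (hu : u ∈ Uh) :
    (fibre S bigC u).ncard = 128 ∧
    (oV S bigC ∩ fibre S bigC u).ncard = (if u = 1 then 91 else 112) ∧
    (dV S bigC ∩ fibre S bigC u).ncard = (if u = 1 then 36 else 16) := by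
  have hE := fusedE hG S
  refine ⟨fibre_ncard S autFacts bigC hu, ?_, ?_⟩
  · split_ifs with h
    · subst h; exact oV_fibre_one S autFacts Cert2.normConfig hE
    · exact (counts S autFacts Cert2.normConfig hE).2 u hu h
  · split_ifs with h
    · subst h
      have he : dV S bigC ∩ fibre S bigC 1 =
          fibre S bigC 1 \ insert 1 (oV S bigC ∩ fibre S bigC 1) := by
        ext v
        constructor
        · rintro ⟨⟨-, h1, hnc⟩, hf⟩
          exact ⟨hf, fun h => by
            rcases h with h | h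
            exacts [h1 h, hnc h.1.2]⟩
        · rintro ⟨hf, hno⟩
          exact ⟨⟨hf.1, fun h => hno (Or.inl h), fun h => hno (Or.inr ⟨⟨hf.1, h⟩, hf⟩)⟩, hf⟩
      have h1 : (1 : G) ∈ fibre S bigC 1 := ⟨one_mem _, S.img_Q (one_mem _)⟩
      have h1' : (1 : G) ∉ oV S bigC ∩ fibre S bigC 1 := fun h =>
        S.z_ne_one (isConj_one_left.mp h.1.2)
      rw [he, Set.ncard_sdiff (Set.insert_subset h1 Set.inter_subset_right),
        fibre_ncard S autFacts bigC hu, Set.ncard_insert_of_notMem h1',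
        oV_fibre_one S autFacts Cert2.normConfig hE]
    · exact (dV_fibre S autFacts Cert2.normConfig hE hu h).1

/-- The counts in the part fixing a coset over `z`, by the order of the stabilised part of the image. -/
theorem tPart_counts {c : G} (hc : c ∈ cz z) {k : ℕ}
    (hk : Nat.card ↥(Uh ⊓ Subgroup.normalizer (mc (S.img c) Uh : Set AutM22)) = k) :
    Nat.card ↥(tPart S (QuotientGroup.mk c)) = 128 * k ∧
    {v : G | v ∈ tPart S (QuotientGroup.mk c) ∧ IsConj z v}.ncard = 91 + 112 * (k - 1) ∧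
    {v : G | v ∈ tPart S (QuotientGroup.mk c) ∧ v ∈ dV S bigC}.ncard = 36 + 16 * (k - 1) := by
  classical
  haveI := Fintype.ofFinite G
  haveI := Fintype.ofFinite AutM22
  set A := Uh ⊓ Subgroup.normalizer (mc (S.img c) Uh : Set AutM22)
  have hAU : A ≤ Uh := inf_le_left
  have hsum : ∀ (X : Set G) (a b : ℕ), (∀ u ∈ A, (X ∩ fibre S bigC u).ncard = if u = 1 then a else b) →
      X ⊆ (V₁ S : Set G) → {v : G | v ∈ tPart S (QuotientGroup.mk c) ∧ v ∈ X}.ncard = a + b * (k - 1) := by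
    intro X a b hX hXV
    have hmaps : ∀ v ∈ ({v : G | v ∈ tPart S (QuotientGroup.mk c) ∧ v ∈ X} : Set G).toFinset,
        S.img v ∈ (A : Set AutM22).toFinset := fun v hv => by
      rw [Set.mem_toFinset] at hv ⊢
      exact ((mem_tPart S hc).mp hv.1).2
    rw [Set.ncard_eq_toFinset_card', Finset.card_eq_sum_card_fiberwise hmaps,
      ← Finset.add_sum_erase _ _ (show (1 : AutM22) ∈ (A : Set AutM22).toFinset by simp)]
    have hf : ∀ u ∈ A, (({v : G | v ∈ tPart S (QuotientGroup.mk c) ∧ v ∈ X} : Set G).toFinset.filter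
        fun v => S.img v = u).card = if u = 1 then a else b := fun u hu => by
      rw [← hX u hu, Set.ncard_eq_toFinset_card']
      congr 1
      ext v
      simp only [Finset.mem_filter, Set.mem_toFinset, Set.mem_ofPred_eq, Set.mem_inter_iff]
      exact ⟨fun h => ⟨h.1.2, hXV h.1.2, h.2⟩,
        fun h => ⟨⟨(mem_tPart S hc).mpr ⟨h.2.1, by rw [h.2.2]; exact hu⟩, h.1⟩, h.2.2⟩⟩
    rw [hf 1 (one_mem A), if_pos rfl, Finset.sum_const_nat (m := b), Finset.card_erase_of_mem (by simp),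
      ← Set.ncard_eq_toFinset_card', ← Nat.card_coe_set_eq, SetLike.coe_sort_coe, hk, mul_comm]
    intro u hu
    rw [Finset.mem_erase, Set.mem_toFinset] at hu
    rw [hf u hu.2, if_neg hu.1]
  refine ⟨?_, ?_, ?_⟩
  · have h := hsum (V₁ S : Set G) 128 128 (fun u hu => by
      rw [Set.inter_eq_self_of_subset_right (fun v hv => hv.1), (fibre_counts hG S (hAU hu)).1,
        ite_self]) subset_rfl
    have e : {v : G | v ∈ tPart S (QuotientGroup.mk c) ∧ v ∈ (V₁ S : Set G)} =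
        (tPart S (QuotientGroup.mk c) : Set G) := Set.ext fun v => ⟨fun h => h.1, fun h => ⟨h, h.1⟩⟩
    rw [e, ← Nat.card_coe_set_eq, SetLike.coe_sort_coe] at h
    rw [h]
    have : 0 < k := hk ▸ Nat.card_pos
    omega
  · have h := hsum (oV S bigC) 91 112 (fun u hu => (fibre_counts hG S (hAU hu)).2.1) (fun v hv => hv.1)
    convert h using 2
    ext v
    exact ⟨fun h => ⟨h.1, h.1.1, h.2⟩, fun h => ⟨h.1, h.2.2⟩⟩
  · exact hsum (dV S bigC) 36 16 (fun u hu => (fibre_counts hG S (hAU hu)).2.2) (fun v hv => hv.1)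

/-- The fused involutions common to the two `2^11`. -/
theorem common_count {c : G} (hc : c ∈ cz z) (hne : mc (S.img c) Uh ≠ Uh) {δ : ℕ}
    (hδ : Set.ncard {U' : Subgroup AutM22 | (∃ g : AutM22, U' = U0.map (MulAut.conj g).toMonoidHom) ∧
      Uh ≤ Subgroup.normalizer (U' : Set AutM22) ∧
      mc (S.img c) Uh ≤ Subgroup.normalizer (U' : Set AutM22)} = δ) :
    {v : G | v ∈ V₁ S ∧ InW S (QuotientGroup.mk c) v ∧ IsConj z v}.ncard = 1 + 6 * δ := by
  classical
  haveI := Fintype.ofFinite G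
  haveI := Fintype.ofFinite (Subgroup AutM22)
  have hE := fusedE hG S
  obtain ⟨-, -, hcz⟩ := vv_facts S autFacts bigC
  set F := autFacts
  set B := Cert2.normConfig
  set X := {v : G | v ∈ V₁ S ∧ InW S (QuotientGroup.mk c) v ∧ IsConj z v} \ {z} with hX
  set U2 := {U' : Subgroup AutM22 | (∃ g : AutM22, U' = U0.map (MulAut.conj g).toMonoidHom) ∧
      Uh ≤ Subgroup.normalizer (U' : Set AutM22) ∧
      mc (S.img c) Uh ≤ Subgroup.normalizer (U' : Set AutM22)} with hU2
  have hzmem : z ∈ {v : G | v ∈ V₁ S ∧ InW S (QuotientGroup.mk c) v ∧ IsConj z v} :=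
    ⟨z_mem_vv S bigC, inW_of_cz S hc, IsConj.refl z⟩
  rw [← Set.ncard_sdiff_singleton_add_one hzmem, add_comm, ← hX]
  congr 1
  -- the members in `O₂(C(z))`
  have hconjz : ∀ {e : G}, e ∈ Q z → IsConj z e → e ≠ z →
      (c⁻¹ * e * c ∈ yBig S Uh B.exp_Uh ↔ mc (S.img c) Uh ≤ Subgroup.normalizer (uE S e : Set AutM22)) := by
    intro e he hze hne
    have he' : c⁻¹ * e * c ∈ Q z := S.conj_mem' hc he
    have hne' : c⁻¹ * e * c ≠ z := fun h => hne (by
      calc e = c * (c⁻¹ * e * c) * c⁻¹ := by group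
        _ = z := by rw [h, (mem_cz.mp hc).eq, mul_inv_cancel_right])
    rw [mem_yBig_iff S F B hE he' (hze.trans (isConj_iff.mpr ⟨c⁻¹, by group⟩)) hne',
      show c⁻¹ * e * c = c⁻¹ * e * c⁻¹⁻¹ by rw [inv_inv], uE_conj S F (inv_mem hc), S.img_inv hc]
    constructor
    · rintro h _ ⟨u, hu, rfl⟩
      have := mem_normalizer_map.mp (h hu)
      simpa using this
    · intro h u hu
      refine mem_normalizer_map.mpr ?_
      simpa using h ⟨u, hu, rfl⟩
  have hmem : ∀ {e}, e ∈ X ↔ e ∈ Q z ∧ IsConj z e ∧ e ≠ z ∧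
      Uh ≤ Subgroup.normalizer (uE S e : Set AutM22) ∧
      mc (S.img c) Uh ≤ Subgroup.normalizer (uE S e : Set AutM22) := fun {e} => by
    constructor
    · rintro ⟨⟨hv, hW, hze⟩, hne'⟩
      rw [inW_mk] at hW
      have himg1 : S.img e = 1 := by
        by_contra h1
        refine hne (mc_eq_self (Cert2.exact_cover.2 (S.img c) (S.img e) (img_mem_Uh S F bigC hv) h1 ?_))
        rw [mem_mc, ← S.img_inv hc, ← S.img_mul (inv_mem hc) (hcz hv),
          ← S.img_mul (mul_mem (inv_mem hc) (hcz hv)) hc]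
        exact img_mem_Uh S F bigC hW
      have hy := (img_one_iff S F bigC hv).mp himg1
      have he := yBig_le S B.exp_Uh hy
      have himg2 : S.img (c⁻¹ * e * c) = 1 := by
        rw [S.img_mul (mul_mem (inv_mem hc) (hcz hv)) hc, S.img_mul (inv_mem hc) (hcz hv), himg1,
          mul_one, S.img_inv hc, inv_mul_cancel]
      exact ⟨he, hze, hne', (mem_yBig_iff S F B hE he hze hne').mp hy,
        (hconjz he hze hne').mp ((img_one_iff S F bigC hW).mp himg2)⟩
    · rintro ⟨he, hze, hne', h1, h2⟩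
      exact ⟨⟨Subgroup.mem_sup_right ((mem_yBig_iff S F B hE he hze hne').mpr h1),
        (inW_mk S c e).mpr (Subgroup.mem_sup_right ((hconjz he hze hne').mpr h2)), hze⟩, hne'⟩
  have hmaps : ∀ e ∈ X.toFinset, uE S e ∈ U2.toFinset := by
    intro e he
    rw [Set.mem_toFinset] at he ⊢
    obtain ⟨heQ, hze, hne', h1, h2⟩ := hmem.mp he
    obtain ⟨r, T⟩ := S.exists_setting hze
    exact ⟨(uE_facts S F B T heQ hne').2.2, h1, h2⟩
  rw [Set.ncard_eq_toFinset_card', Finset.card_eq_sum_card_fiberwise hmaps,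
    Finset.sum_const_nat (m := 6), ← Set.ncard_eq_toFinset_card', hδ, mul_comm]
  intro U' hU'
  rw [Set.mem_toFinset] at hU'
  obtain ⟨⟨g, hg⟩, hN, hN'⟩ := hU'
  have hx2 : IsExp2 U' := hg ▸ isExp2_map B.exp_U0 g
  obtain ⟨h4, hl⟩ := line_of_duad S F B hE hx2 ⟨g, hg⟩
  have hP : (X.toFinset.filter fun e => uE S e = U') =
      ((up z (wFix S U' hx2) : Set G) \ {1, z}).toFinset := by
    ext e
    simp only [Finset.mem_filter, Set.mem_toFinset, Set.mem_sdiff, SetLike.mem_coe,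
      Set.mem_insert_iff, Set.mem_singleton_iff, not_or]
    constructor
    · rintro ⟨he, rfl⟩
      obtain ⟨heQ, hze, hne', -, -⟩ := hmem.mp he
      obtain ⟨r, T⟩ := S.exists_setting hze
      exact ⟨mem_up.mpr ⟨heQ, mk_mem_uE S F B T heQ hne' hx2⟩, T.z_ne_one, hne'⟩
    · rintro ⟨he, h1, hne'⟩
      obtain ⟨heQ, hm⟩ := mem_up.mp he
      obtain ⟨hze, hu⟩ := hl e heQ h1 hne' hm
      exact ⟨hmem.mpr ⟨heQ, hze, hne', by rw [hu]; exact hN, by rw [hu]; exact hN'⟩, hu⟩
  have hsub : ({1, z} : Set G) ⊆ (up z (wFix S U' hx2) : Set G) := by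
    rintro x (rfl | rfl)
    exacts [one_mem _, z_mem_up S _]
  rw [hP, ← Set.ncard_eq_toFinset_card', Set.ncard_sdiff hsub, ← Nat.card_coe_set_eq,
    SetLike.coe_sort_coe, card_up S, h4, Set.ncard_pair S.z_ne_one.symm]

end

end Cfsg.Agent.Lib.J4Coset48
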