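import Cfsg.Agent.Lib.J4Coset48.Nbr

/-!
# The two neighbouring suborbits
-/

set_option autoImplicit false
set_option linter.unusedSectionVars false

namespace Cfsg.Agent.Lib.J4Coset48

open Cfsg Cfsg.Agent.Lib.LargeExtraspecial.Basic Cfsg.Agent.Lib.J4Local Cfsg.Agent.Lib.J4Big
open Cfsg.Agent.Lib.J4Big.Codes (mc mem_mc mc_one mc_mul mc_eq_self mem_normalizer_of_mc)
open Cfsg.Agent.Lib.J4Big.Cert2 (Uh U0)

variable {G : Type*} [Group G] [Finite G] {z p : G}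

/-- The base coset. -/
noncomputable abbrev base (S : Setting z p) : G ⧸ N₁ S := QuotientGroup.mk 1

/-- The counts in the part of the `2^11` fixing a coset. -/
structure Counts (S : Setting z p) (q : G ⧸ N₁ S) (n a b : ℕ) : Prop where
  card : Nat.card ↥(tPart S q) = n
  fused : {v : G | v ∈ tPart S q ∧ IsConj z v}.ncard = a
  other : {v : G | v ∈ tPart S q ∧ v ∈ dV S bigC}.ncard = b

/-- The two neighbouring suborbits. -/
structure Neigh (S : Setting z p) (qA qB : G ⧸ N₁ S) : Prop where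
  sizeA : (norb (N₁ S) qA).ncard = 28336
  sizeB : (norb (N₁ S) qB).ncard = 15180
  countA : ∀ q ∈ norb (N₁ S) qA, Counts S q 128 91 36
  countB : ∀ q ∈ norb (N₁ S) qB, Counts S q 512 427 84
  rest : ∀ q, q ≠ base S → q ∉ norb (N₁ S) qA → q ∉ norb (N₁ S) qB →
    ∀ v ∈ V₁ S, InW S q v → v = 1

theorem conj_mem_V (S : Setting z p) {n v : G} (hn : n ∈ N₁ S) :
    n * v * n⁻¹ ∈ V₁ S ↔ v ∈ V₁ S :=
  (Subgroup.mem_normalizer_iff.mp hn v).symm

theorem tPart_smul (S : Setting z p) {n : G} (hn : n ∈ N₁ S) (q : G ⧸ N₁ S) :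
    tPart S (n • q) = (tPart S q).map (MulAut.conj n).toMonoidHom :=
  inf_cstab_smul le_rfl hn q

theorem counts_smul (S : Setting z p) {n : G} (hn : n ∈ N₁ S) {q : G ⧸ N₁ S} {k a b : ℕ}
    (h : Counts S q k a b) : Counts S (n • q) k a b := by
  have hinj : Function.Injective fun v : G => n * v * n⁻¹ := (MulAut.conj n).injective
  refine ⟨by rw [tPart_smul S hn, Subgroup.card_map_of_injective (MulAut.conj n).injective, h.card],
    ?_, ?_⟩
  · rw [← h.fused, ← Set.ncard_image_of_injective {v : G | v ∈ tPart S q ∧ IsConj z v} hinj,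
      tPart_smul S hn]
    congr 1
    ext v
    constructor
    · rintro ⟨⟨w, hw, rfl⟩, hz⟩
      exact ⟨w, ⟨hw, isConj_conj_iff.mp hz⟩, rfl⟩
    · rintro ⟨w, ⟨hw, hz⟩, rfl⟩
      exact ⟨⟨w, hw, rfl⟩, isConj_conj_iff.mpr hz⟩
  · rw [← h.other, ← Set.ncard_image_of_injective {v : G | v ∈ tPart S q ∧ v ∈ dV S bigC} hinj,
      tPart_smul S hn]
    congr 1
    ext v
    constructor
    · rintro ⟨⟨w, hw, rfl⟩, hd⟩
      exact ⟨w, ⟨hw, (conj_mem_dV_iff S autFacts bigC hn hw.1).mp hd⟩, rfl⟩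
    · rintro ⟨w, ⟨hw, hd⟩, rfl⟩
      exact ⟨⟨w, hw, rfl⟩, (conj_mem_dV_iff S autFacts bigC hn hw.1).mpr hd⟩

variable [IsSimpleGroup G] (hG : ¬ IsMulCommutative G)
include hG

theorem cent_dV (S : Setting z p) {t : G} (ht : t ∈ dV S bigC) : cz t ≤ N₁ S := by
  have hE := fusedE hG S
  obtain ⟨ψ, H, h1⟩ := exists_frame_vv S autFacts Cert2.normConfig hE ht
  intro x hx
  exact cent_t_le S autFacts Cert2.normConfig Cert2.meetConfig hE H h1 hx

/-- The suborbit of the stabiliser of `z` has as many cosets as subgroups. -/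
theorem suborbit_card (S : Setting z p) {c : G} (hc : c ∈ cz z) {k : ℕ}
    (hk : (NbrCert.suborb (mc (S.img c) Uh)).ncard = k) :
    {q : G ⧸ N₁ S | ∃ n ∈ mSt S Uh, n • (QuotientGroup.mk c : G ⧸ N₁ S) = q}.ncard = k := by
  rw [← hk]
  refine Set.ncard_congr (fun q _ => mc (S.img (Function.invFunOn (fun g : G =>
    (QuotientGroup.mk g : G ⧸ N₁ S)) (cz z : Set G) q)) Uh) ?_ ?_ ?_
  · rintro _ ⟨n, hn, rfl⟩
    have hnc := ((mem_mSt S).mp hn).1
    have hex : ∃ d ∈ (cz z : Set G), (QuotientGroup.mk d : G ⧸ N₁ S) = n • QuotientGroup.mk c :=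
      ⟨n * c, mul_mem hnc hc, rfl⟩
    refine ⟨S.img n, ((mem_mSt S).mp hn).2, ?_⟩
    have h := (mk_eq_mk_iff S (Function.invFunOn_mem hex) (mul_mem hnc hc)).mp (Function.invFunOn_eq hex)
    rw [h, S.img_mul hnc hc, mc_mul]
  · rintro _ _ ⟨n, hn, rfl⟩ ⟨m, hm, rfl⟩ e
    have hex : ∀ {n : G}, n ∈ mSt S Uh →
        ∃ d ∈ (cz z : Set G), (QuotientGroup.mk d : G ⧸ N₁ S) = n • QuotientGroup.mk c :=
      fun {n} hn => ⟨n * c, mul_mem ((mem_mSt S).mp hn).1 hc, rfl⟩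
    have h := (mk_eq_mk_iff S (Function.invFunOn_mem (hex hn)) (Function.invFunOn_mem (hex hm))).mpr e
    rwa [Function.invFunOn_eq (hex hn), Function.invFunOn_eq (hex hm)] at h
  · rintro _ ⟨g, hg, rfl⟩
    obtain ⟨n, hn, rfl⟩ := S.img_surj g
    have hnm : n ∈ mSt S Uh := (mem_mSt S).mpr ⟨hn, hg⟩
    refine ⟨n • QuotientGroup.mk c, ⟨n, hnm, rfl⟩, ?_⟩
    have hex : ∃ d ∈ (cz z : Set G), (QuotientGroup.mk d : G ⧸ N₁ S) = n • QuotientGroup.mk c :=
      ⟨n * c, mul_mem hn hc, rfl⟩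
    rw [(mk_eq_mk_iff S (Function.invFunOn_mem hex) (mul_mem hn hc)).mp (Function.invFunOn_eq hex),
      S.img_mul hn hc, mc_mul]

/-- An orbit length from the suborbit over `z`. -/
theorem orbit_size (S : Setting z p) {q₀ : G ⧸ N₁ S} {T : Set (G ⧸ N₁ S)} {d s : ℕ}
    (hT : {q | q ∈ norb (N₁ S) q₀ ∧ InW S q z} = T) (hs : T.ncard = s)
    (hd : ∀ q ∈ norb (N₁ S) q₀, {v : G | v ∈ V₁ S ∧ InW S q v ∧ IsConj z v}.ncard = d) :
    (norb (N₁ S) q₀).ncard * d = 1771 * s := by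
  classical
  haveI := Fintype.ofFinite G
  haveI := Fintype.ofFinite (G ⧸ N₁ S)
  have key := Finset.sum_card_bipartiteAbove_eq_sum_card_bipartiteBelow
    (fun (q : G ⧸ N₁ S) (v : G) => InW S q v) (s := (norb (N₁ S) q₀).toFinset)
    (t := (oV S bigC).toFinset)
  have h1 : ∀ q ∈ (norb (N₁ S) q₀).toFinset,
      (Finset.bipartiteAbove (fun (q : G ⧸ N₁ S) (v : G) => InW S q v) (oV S bigC).toFinset q).card = d := by
    intro q hq
    rw [← hd q (Set.mem_toFinset.mp hq), Set.ncard_eq_toFinset_card']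
    congr 1
    ext v
    simp only [Finset.mem_bipartiteAbove, Set.mem_toFinset]
    exact ⟨fun h => ⟨h.1.1, h.2, h.1.2⟩, fun h => ⟨⟨h.1, h.2.2⟩, h.2.1⟩⟩
  have h2 : ∀ v ∈ (oV S bigC).toFinset,
      (Finset.bipartiteBelow (fun (q : G ⧸ N₁ S) (v : G) => InW S q v) (norb (N₁ S) q₀).toFinset v).card = s := by
    intro v hv
    have hv' := Set.mem_toFinset.mp hv
    obtain ⟨n, hn, rfl⟩ := fusion_vv S autFacts bigC (z_mem_vv S bigC) hv'.1 hv'.2
    rw [← hs, ← hT, ← Set.ncard_image_of_injective _ (MulAction.injective n), Set.ncard_eq_toFinset_card']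
    congr 1
    ext q
    simp only [Finset.mem_bipartiteBelow, Set.mem_toFinset, Set.mem_image, Set.mem_ofPred_eq]
    constructor
    · rintro ⟨hq, hW⟩
      refine ⟨n⁻¹ • q, ⟨?_, ?_⟩, smul_inv_smul n q⟩
      · obtain ⟨m, hm, rfl⟩ := mem_norb.mp hq
        exact mem_norb.mpr ⟨n⁻¹ * m, mul_mem (inv_mem hn) hm, mul_smul _ _ _⟩
      · rw [← inW_smul S n, smul_inv_smul]; exact hW
    · rintro ⟨r, ⟨hr, hW⟩, rfl⟩
      obtain ⟨m, hm, rfl⟩ := mem_norb.mp hr
      exact ⟨mem_norb.mpr ⟨n * m, mul_mem hn hm, mul_smul _ _ _⟩, (inW_smul S n _ z).mpr hW⟩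
  rw [Finset.sum_const_nat h1, Finset.sum_const_nat h2, ← Set.ncard_eq_toFinset_card',
    ← Set.ncard_eq_toFinset_card', (counts S autFacts Cert2.normConfig (fusedE hG S)).1] at key
  exact key

theorem counts_base (S : Setting z p) : Nat.card ↥(tPart S (base S)) = 2048 := by
  have : tPart S (base S) = V₁ S := inf_eq_left.mpr fun v hv =>
    ⟨Subgroup.le_normalizer hv, mk_one_smul S (Subgroup.le_normalizer hv)⟩
  rw [this, (vv_facts S autFacts bigC).1]
  norm_num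

/-- The two neighbouring suborbits exist and contain every coset whose `2^11` meets the base one. -/
theorem exists_neigh (S : Setting z p) : ∃ qA qB, Neigh S qA qB := by
  classical
  obtain ⟨gA, gB, ⟨hsA, hsB⟩, hcov, hkA, hkB, hδA, hδB⟩ := NbrCert.two_suborbits
  obtain ⟨cA, hcA, rfl⟩ := S.img_surj gA
  obtain ⟨cB, hcB, rfl⟩ := S.img_surj gB
  set qA : G ⧸ N₁ S := QuotientGroup.mk cA
  set qB : G ⧸ N₁ S := QuotientGroup.mk cB
  have kA : Counts S qA 128 91 36 := by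
    obtain ⟨a, b, c⟩ := tPart_counts hG S hcA hkA
    exact ⟨a, b, c⟩
  have kB : Counts S qB 512 427 84 := by
    obtain ⟨a, b, c⟩ := tPart_counts hG S hcB hkB
    exact ⟨a, b, c⟩
  have cAll : ∀ q ∈ norb (N₁ S) qA, Counts S q 128 91 36 := fun q hq => by
    obtain ⟨n, hn, rfl⟩ := mem_norb.mp hq
    exact counts_smul S hn kA
  have cBll : ∀ q ∈ norb (N₁ S) qB, Counts S q 512 427 84 := fun q hq => by
    obtain ⟨n, hn, rfl⟩ := mem_norb.mp hq
    exact counts_smul S hn kB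
  have hover : ∀ q, InW S q z → q = base S ∨
      (∃ n ∈ mSt S Uh, n • qA = q) ∨ (∃ n ∈ mSt S Uh, n • qB = q) := by
    intro q hq
    obtain ⟨c, hc, rfl⟩ := exists_mk_of_inW S hq
    have lift : ∀ {g : G} (hg : g ∈ cz z), mc (S.img c) Uh ∈ NbrCert.suborb (mc (S.img g) Uh) →
        ∃ n ∈ mSt S Uh, n • (QuotientGroup.mk g : G ⧸ N₁ S) = QuotientGroup.mk c := by
      intro g hg ⟨a, ha, e⟩
      obtain ⟨n, hn, rfl⟩ := S.img_surj a
      refine ⟨n, (mem_mSt S).mpr ⟨hn, ha⟩, ?_⟩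
      show (QuotientGroup.mk (n * g) : G ⧸ N₁ S) = _
      rw [mk_eq_mk_iff S (mul_mem hn hg) hc, e, S.img_mul hn hg, mc_mul]
    rcases hcov (S.img c) with h | h | h
    · refine Or.inl ((mk_eq_mk_iff S hc (one_mem _)).mpr ?_)
      rw [h, S.img_Q (one_mem _), mc_one]
    · exact Or.inr (Or.inl (lift hcA h))
    · exact Or.inr (Or.inr (lift hcB h))
  have hN : mSt S Uh ≤ N₁ S := mSt_le_normalizer S autFacts bigC
  have hne : ∀ {c : G} (hc : c ∈ cz z) {k : ℕ}, k < 16 →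
      Nat.card ↥(Uh ⊓ Subgroup.normalizer (mc (S.img c) Uh : Set AutM22)) = k →
      mc (S.img c) Uh ≠ Uh := fun {c} hc {k} hk h e => by
    rw [e, inf_eq_left.mpr Subgroup.le_normalizer, Cert2.normConfig.card_Uh] at h
    omega
  have inv : ∀ {q r : G ⧸ N₁ S}, r ∈ norb (N₁ S) q → Nat.card ↥(tPart S r) = Nat.card ↥(tPart S q) :=
    fun {q r} h => by
      obtain ⟨n, hn, rfl⟩ := mem_norb.mp h
      rw [tPart_smul S hn, Subgroup.card_map_of_injective (MulAut.conj n).injective]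
  have tA : {q | q ∈ norb (N₁ S) qA ∧ InW S q z} = {q | ∃ n ∈ mSt S Uh, n • qA = q} := by
    ext q
    constructor
    · rintro ⟨hq, hW⟩
      have h := (cAll q hq).card
      rcases hover q hW with rfl | h' | ⟨n, hn, rfl⟩
      · rw [counts_base hG] at h; omega
      · exact h'
      · rw [(cBll _ (mem_norb.mpr ⟨n, hN hn, rfl⟩)).card] at h; omega
    · rintro ⟨n, hn, rfl⟩
      exact ⟨mem_norb.mpr ⟨n, hN hn, rfl⟩, inW_of_cz S (mul_mem ((mem_mSt S).mp hn).1 hcA)⟩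
  have tB : {q | q ∈ norb (N₁ S) qB ∧ InW S q z} = {q | ∃ n ∈ mSt S Uh, n • qB = q} := by
    ext q
    constructor
    · rintro ⟨hq, hW⟩
      have h := (cBll q hq).card
      rcases hover q hW with rfl | ⟨n, hn, rfl⟩ | h'
      · rw [counts_base hG] at h; omega
      · rw [(cAll _ (mem_norb.mpr ⟨n, hN hn, rfl⟩)).card] at h; omega
      · exact h'
    · rintro ⟨n, hn, rfl⟩
      exact ⟨mem_norb.mpr ⟨n, hN hn, rfl⟩, inW_of_cz S (mul_mem ((mem_mSt S).mp hn).1 hcB)⟩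
  have hcom : ∀ {c : G} {d : ℕ}, {v : G | v ∈ V₁ S ∧ InW S (QuotientGroup.mk c) v ∧ IsConj z v}.ncard = d →
      ∀ q ∈ norb (N₁ S) (QuotientGroup.mk c), {v : G | v ∈ V₁ S ∧ InW S q v ∧ IsConj z v}.ncard = d := by
    intro c d hd q hq
    obtain ⟨n, hn, rfl⟩ := mem_norb.mp hq
    rw [← hd, ← Set.ncard_image_of_injective
      {v : G | v ∈ V₁ S ∧ InW S (QuotientGroup.mk c) v ∧ IsConj z v} (MulAut.conj n).injective]
    congr 1
    ext v
    simp only [Set.mem_image, Set.mem_ofPred_eq, MulAut.conj_apply]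
    constructor
    · rintro ⟨hv, hW, hz⟩
      have e : n * (n⁻¹ * v * n) * n⁻¹ = v := by group
      exact ⟨n⁻¹ * v * n, ⟨(conj_mem_V S hn).mp (e.symm ▸ hv), (inW_smul S n _ _).mp (e.symm ▸ hW),
        isConj_conj_iff.mp (e.symm ▸ hz)⟩, e⟩
    · rintro ⟨w, ⟨hv, hW, hz⟩, rfl⟩
      exact ⟨(conj_mem_V S hn).mpr hv, (inW_smul S n _ _).mpr hW, isConj_conj_iff.mpr hz⟩
  have sA := orbit_size hG S tA (suborbit_card hG S hcA hsA)
    (hcom (common_count hG S hcA (hne hcA (by norm_num) hkA) hδA))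
  have sB := orbit_size hG S tB (suborbit_card hG S hcB hsB)
    (hcom (common_count hG S hcB (hne hcB (by norm_num) hkB) hδB))
  refine ⟨qA, qB, by omega, by omega, cAll, cBll, fun q hb hA hB v hv hW => ?_⟩
  by_contra h1
  by_cases hz : IsConj z v
  · obtain ⟨n, hn, rfl⟩ := fusion_vv S autFacts bigC (z_mem_vv S bigC) hv hz
    have hW' : InW S (n⁻¹ • q) z := by rw [← inW_smul S n, smul_inv_smul]; exact hW
    rcases hover _ hW' with e | ⟨m, hm, e⟩ | ⟨m, hm, e⟩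
    · exact hb (by rw [inv_smul_eq_iff.mp e, mk_one_smul S hn])
    · exact hA (mem_norb.mpr ⟨n * m, mul_mem hn (hN hm), by rw [mul_smul, e, smul_inv_smul]⟩)
    · exact hB (mem_norb.mpr ⟨n * m, mul_mem hn (hN hm), by rw [mul_smul, e, smul_inv_smul]⟩)
  · exact hb (eq_base_of_dV hG S ⟨hv, h1, hz⟩ hW (cent_dV hG S ⟨hv, h1, hz⟩))

end Cfsg.Agent.Lib.J4Coset48
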