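import Cfsg.Agent.Lib.J4Coset48.Kind

/-!
# An element of prime order of the complement and the cosets it fixes
-/

set_option autoImplicit false
set_option linter.unusedSectionVars false

namespace Cfsg.Agent.Lib.J4Coset48

open Cfsg Cfsg.Agent.Lib.LargeExtraspecial.Basic Cfsg.Agent.Lib.J4Local Cfsg.Agent.Lib.J4Big
open Cfsg.Agent.Lib.J4Order
open scoped Classical

variable {G : Type*} [Group G] [Finite G] {z p : G}

namespace Ctx

variable (C : Ctx z p)

theorem κ_injective : Function.Injective C.M.κ :=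
  (injective_iff_map_eq_one C.M.κ).mpr fun σ h => C.M.meet (h ▸ one_mem _)

theorem κ_mem (σ : ↥M24) : C.M.κ σ ∈ N₁ C.S := C.normEq ▸ C.M.mem_norm σ

theorem exists_prime (r : ℕ) [Fact r.Prime] (hr : r ∣ 244823040) :
    ∃ a : ↥M24, orderOf a = r ∧ orderOf (C.M.κ a) = r := by
  obtain ⟨a, ha⟩ := exists_prime_orderOf_dvd_card' (G := ↥M24) r (by rwa [Golay.card_M24])
  exact ⟨a, ha, (orderOf_injective C.M.κ C.κ_injective a).trans ha⟩

/-- The fixed cosets of a subgroup of prime order. -/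
theorem fix_prime {x : G} {r : ℕ} [Fact r.Prime] (hx : x ∈ N₁ C.S) (ho : orderOf x = r)
    (h2 : ¬ r ^ 2 ∣ 501397585920) :
    {q : G ⧸ N₁ C.S | x • q = q}.ncard *
      Nat.card ↥(N₁ C.S ⊓ Subgroup.normalizer ((Subgroup.zpowers x : Subgroup G) : Set G)) =
      Nat.card ↥(Subgroup.normalizer ((Subgroup.zpowers x : Subgroup G) : Set G)) := by
  obtain ⟨P, hP⟩ := M24Norm.exists_sylow_eq (W := ↥(N₁ C.S)) (p := r) (by rwa [C.cardN])
    (P := Subgroup.zpowers ⟨x, hx⟩) (by rw [Nat.card_zpowers, Subgroup.orderOf_mk, ho])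
  have h := fix_sylow P
  rw [hP, MonoidHom.map_zpowers] at h
  change {q : G ⧸ N₁ C.S | ∀ y ∈ Subgroup.zpowers x, y • q = q}.ncard * _ = _ at h
  have hset : {q : G ⧸ N₁ C.S | ∀ y ∈ Subgroup.zpowers x, y • q = q} =
      {q : G ⧸ N₁ C.S | x • q = q} := by
    ext q
    refine ⟨fun h => h x (Subgroup.mem_zpowers x), fun h y hy => ?_⟩
    exact (Subgroup.zpowers_le.mpr (MulAction.mem_stabilizer_iff.mpr h) :
      Subgroup.zpowers x ≤ MulAction.stabilizer G q) hy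
  rw [hset] at h
  exact h

/-- An element of prime order fixes a coset in an orbit with a divisible stabiliser. -/
theorem exists_fixed {x : G} {r : ℕ} [Fact r.Prime] (hx : x ∈ N₁ C.S) (ho : orderOf x = r)
    (h2 : ¬ r ^ 2 ∣ 501397585920) (q : G ⧸ N₁ C.S) (hr : r ∣ Nat.card ↥(cstab (N₁ C.S) q)) :
    ∃ q' ∈ norb (N₁ C.S) q, x • q' = q' := by
  obtain ⟨⟨w, hw⟩, hwo⟩ := exists_prime_orderOf_dvd_card' (G := ↥(cstab (N₁ C.S) q)) r hr
  rw [Subgroup.orderOf_mk] at hwo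
  obtain ⟨n, hn, hnx⟩ := conj_sylow (p := r) (k := 1) (W := N₁ C.S)
    (by rwa [C.cardN]) (X := Subgroup.zpowers x) (Y := Subgroup.zpowers w)
    (Subgroup.zpowers_le.mpr hx) (Subgroup.zpowers_le.mpr hw.1)
    (by rw [Nat.card_zpowers, ho, pow_one]) (by rw [Nat.card_zpowers, hwo, pow_one])
  refine ⟨n⁻¹ • q, mem_norb.mpr ⟨_, inv_mem hn, rfl⟩, ?_⟩
  have h := ((Subgroup.zpowers_le.mpr hw : Subgroup.zpowers w ≤ cstab (N₁ C.S) q)
    (hnx x (Subgroup.mem_zpowers x))).2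
  change (n * x * n⁻¹) • q = q at h
  rw [eq_inv_smul_iff, ← mul_smul, ← mul_smul]
  exact h

end Ctx

end Cfsg.Agent.Lib.J4Coset48
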