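import Mathlib

/-!
# The arithmetic of the suborbits off the neighbourhood of a coset

An orbit is recorded as `(j, m)`: its stabiliser has order `2 ^ j * m`, where `2 ^ j` is the order of
its part in the `2^11` and `m` the order of its image in the complement.
-/

set_option autoImplicit false

namespace Cfsg.Agent.Lib.J4Coset48

/-- The order of the normaliser. -/
abbrev cardN : ℕ := 501397585920

/-- The number of cosets off the neighbourhood. -/
abbrev restN : ℕ := 173023872

/-- The number of incidences with the fused involutions of the `2^11`. -/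
abbrev restK : ℕ := 83647872

/-- The orbit length. -/
def osz (c : ℕ × ℕ) : ℕ := cardN / (2 ^ c.1 * c.2)

/-- The incidences in one orbit. -/
def okk (c : ℕ × ℕ) : ℕ := (2 ^ c.1 - 1) * osz c

/-- The possible orders of the normaliser of a subgroup of order five of an image. -/
def d240 : List ℕ := [5, 10, 15, 20, 30, 40, 60, 80, 120, 240]

/-- The fixed part of the vector group under an element of order five. -/
def cFix (j : ℕ) : ℕ := if j % 4 = 1 then 2 else 1

/-- The possible numbers of fixed points of an element of order five. -/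
def fiveOpts (c : ℕ × ℕ) : List ℕ :=
  (d240.filter fun d => Nat.beq (c.2 % d) 0 && Nat.beq (c.2 / d % 5) 1).map
    fun d => 1920 / (cFix c.1 * d)

/-- The least number of fixed points of an element of order five, up to the available total. -/
def fiveMin (c : ℕ × ℕ) : ℕ :=
  if c.2 % 5 = 0 then (fiveOpts c).foldr min 14 else 0

/-- A Sylow congruence. -/
def sylOk (m p : ℕ) (ds : List ℕ) : Bool :=
  ds.any fun d => Nat.beq (m % d) 0 && Nat.beq (m / d % p) 1

/-- The conditions on one orbit. -/
def okC (c : ℕ × ℕ) : Bool :=
  Nat.beq (cardN % (2 ^ c.1 * c.2)) 0 && Nat.ble (osz c) restN && Nat.ble (okk c) restK &&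
  (!Nat.beq (c.2 % 23) 0 || (Nat.beq c.1 0 && sylOk c.2 23 [23, 253])) &&
  (!Nat.beq (c.2 % 11) 0 || sylOk c.2 11 [11, 22, 55, 110]) &&
  (!Nat.beq c.1 1 || Nat.beq (2752512 % (2 * c.2)) 0 || Nat.beq (491520 % (2 * c.2)) 0) &&
  (!Nat.beq (c.2 % 5) 0 || (Nat.ble (c.1 % 4) 1 && (fiveOpts c).any fun o => Nat.ble o 13))

/-- The possible image orders. -/
def mList : List ℕ :=
  (List.range 11).flatMap fun a => [1, 3, 9].flatMap fun b => [1, 5].flatMap fun f =>
    [1, 11].flatMap fun e => [1, 23].map fun d => 2 ^ a * b * f * e * d

/-- The orbit types passing the conditions, by increasing `j`. -/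
def cands : List (ℕ × ℕ) :=
  [(0, 3072), (0, 3168), (0, 3840), (0, 4608), (0, 6072), (0, 9216), (0, 11264),
   (0, 13248), (0, 15840), (0, 23040), (0, 42240), (0, 1943040), (1, 3072), (1, 3840),
   (1, 7680), (2, 4608), (2, 9216), (2, 11264), (3, 9216), (3, 11264), (4, 9216),
   (4, 11264), (4, 15840), (4, 23040), (4, 42240), (5, 7680), (5, 7920), (5, 9216),
   (5, 11264), (5, 11520), (5, 15840), (5, 23040), (5, 42240), (5, 46080), (5, 84480),
   (5, 506880), (6, 9216), (6, 11264), (7, 9216), (7, 11264), (8, 9216), (8, 11264),
   (8, 15840), (8, 23040), (8, 42240), (9, 7680), (9, 7920), (9, 9216), (9, 11264),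
   (9, 11520), (9, 15840), (9, 23040), (9, 42240), (9, 46080), (9, 84480), (9, 506880),
   (10, 9216), (10, 11264)]

theorem cands_cover : ((List.range 11).all fun j => mList.all fun m =>
    !okC (j, m) || cands.contains (j, m)) = true := by decide +kernel

theorem cands_sorted : cands.Pairwise (fun a b => a.1 ≤ b.1) ∧ ∀ c ∈ cands, c.1 ≤ 10 ∧ 0 < osz c := by
  decide +kernel

/-- The solution. -/
def target : List (ℕ × ℕ) := [(4, 9216), (1, 7680), (0, 9216), (0, 6072)]

/-- The search. -/
def go : List (ℕ × ℕ) → ℕ → ℕ → ℕ → List (ℕ × ℕ) → Bool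
  | [], r, k, _, acc => !(Nat.beq r 0 && Nat.beq k 0) || decide (acc.Perm target)
  | c :: cs, r, k, f, acc =>
    Nat.blt k ((2 ^ c.1 - 1) * r) || Nat.blt (1023 * r) k ||
      (List.range ((if okk c = 0 then r / osz c else min (r / osz c) (k / okk c)) + 1)).all fun n =>
        Nat.blt f (n * fiveMin c) ||
          go cs (r - n * osz c) (k - n * okk c) (f - n * fiveMin c) (List.replicate n c ++ acc)

theorem go_ok : go cands restN restK 13 [] = true := by decide +kernel

theorem sum_replicate_map {α : Type*} (g : α → ℕ) (n : ℕ) (c : α) :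
    ((List.replicate n c).map g).sum = n * g c := by simp

theorem go_sound : ∀ (cs : List (ℕ × ℕ)), cs.Pairwise (fun a b => a.1 ≤ b.1) →
    (∀ c ∈ cs, c.1 ≤ 10 ∧ 0 < osz c) → ∀ (L acc : List (ℕ × ℕ)) (r k f : ℕ),
    go cs r k f acc = true → (∀ e ∈ L, e ∈ cs) → (L.map osz).sum = r → (L.map okk).sum = k →
    (L.map fiveMin).sum ≤ f → (acc ++ L).Perm target
  | [], _, _, L, acc, r, k, f, h, hL, hr, hk, hf => by
    obtain rfl : L = [] := List.eq_nil_iff_forall_not_mem.mpr fun e he => by simpa using hL e he
    simp only [List.map_nil, List.sum_nil] at hr hk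
    subst hr hk
    simpa [go] using h
  | c :: cs, hs, hb, L, acc, r, k, f, h, hL, hr, hk, hf => by
    rw [List.pairwise_cons] at hs
    set n := L.count c with hn
    set L' := L.filter (fun e => !(e == c)) with hL'
    have hperm : (List.replicate n c ++ L').Perm L := by
      rw [hn, ← List.filter_beq]
      exact List.filter_append_perm _ _
    have hsum : ∀ g : ℕ × ℕ → ℕ, (L.map g).sum = n * g c + (L'.map g).sum := fun g => by
      rw [← (hperm.map g).sum_eq, List.map_append, List.sum_append, sum_replicate_map]
    have hlow : (2 ^ c.1 - 1) * r ≤ k := by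
      rw [← hr, ← hk, ← List.sum_map_mul_left]
      refine List.sum_le_sum fun e he => ?_
      refine Nat.mul_le_mul_right _ (Nat.sub_le_sub_right (Nat.pow_le_pow_right (by norm_num) ?_) 1)
      rcases List.mem_cons.mp (hL e he) with rfl | he'
      · exact le_rfl
      · exact hs.1 e he'
    have hhigh : k ≤ 1023 * r := by
      rw [← hr, ← hk, ← List.sum_map_mul_left]
      refine List.sum_le_sum fun e he => ?_
      refine Nat.mul_le_mul_right _ ?_
      have := Nat.pow_le_pow_right (show 1 ≤ 2 by norm_num) (hb e (hL e he)).1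
      omega
    have h1 := hsum osz
    have h2 := hsum okk
    have h3 := hsum fiveMin
    rw [hr] at h1
    rw [hk] at h2
    have hnr : n ≤ r / osz c := (Nat.le_div_iff_mul_le (hb c List.mem_cons_self).2).mpr (by omega)
    have hnb : n ≤ if okk c = 0 then r / osz c else min (r / osz c) (k / okk c) := by
      split_ifs with h0
      · exact hnr
      · exact le_min hnr ((Nat.le_div_iff_mul_le (Nat.pos_of_ne_zero h0)).mpr (by omega))
    simp only [go, Bool.or_eq_true, Nat.blt_eq, List.all_eq_true, List.mem_range] at h
    rcases h with (h | h) | h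
    · omega
    · omega
    · rcases h n (by omega) with h | h
      · omega
      · refine List.Perm.trans ?_ (go_sound cs hs.2 (fun e he => hb e (List.mem_cons_of_mem _ he)) L'
          _ _ _ _ h ?_ (by omega) (by omega) (by omega))
        · refine ((List.Perm.append_left acc hperm.symm).trans ?_)
          rw [← List.append_assoc]
          exact List.Perm.append_right _ List.perm_append_comm
        · intro e he
          rw [hL', List.mem_filter] at he
          rcases List.mem_cons.mp (hL e he.1) with rfl | he'
          · simp at he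
          · exact he'

/-- The suborbits off the neighbourhood are forced. -/
theorem orbits_forced (L : List (ℕ × ℕ))
    (hL : ∀ e ∈ L, e.1 ≤ 10 ∧ e.2 ∈ mList ∧ okC e = true)
    (hr : (L.map osz).sum = restN) (hk : (L.map okk).sum = restK)
    (hf : (L.map fiveMin).sum ≤ 13) : L.Perm target := by
  have hc := cands_cover
  simp only [List.all_eq_true, List.mem_range, Bool.or_eq_true, Bool.not_eq_true',
    List.contains_eq_mem, decide_eq_true_eq] at hc
  have h := go_sound cands cands_sorted.1 cands_sorted.2 L [] restN restK 13 go_ok (fun e he => by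
    obtain ⟨h1, h2, h3⟩ := hL e he
    rcases hc e.1 (by omega) e.2 h2 with h | h
    · rw [h3] at h; exact absurd h (by simp)
    · exact h) hr hk hf
  simpa using h

theorem target_sizes : target.map osz = [3400320, 32643072, 54405120, 82575360] := by decide +kernel

end Cfsg.Agent.Lib.J4Coset48
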