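import Cfsg.Agent.Lib.J4Coset48.Neigh
import Cfsg.Agent.Lib.J4Coset48.Census
import Cfsg.Agent.Lib.J4Coset48.Search
import Cfsg.Agent.Lib.J4Order.Classes
import Cfsg.Agent.Lib.J4Five.Orbits

/-!
# The totals over the cosets off the neighbourhood
-/

set_option autoImplicit false
set_option linter.unusedSectionVars false

namespace Cfsg.Agent.Lib.J4Coset48

open Cfsg Cfsg.Agent.Lib.LargeExtraspecial.Basic Cfsg.Agent.Lib.J4Local Cfsg.Agent.Lib.J4Big
open Cfsg.Agent.Lib.J4Order
open Cfsg.Agent.Lib.J4Big.Cert2 (Uh U0)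
open scoped Classical

variable {G : Type*} [Group G] [Finite G] {z p : G}

/-- Everything the count needs about the group. -/
structure Ctx (z p : G) where
  /-- The setting. -/
  S : Setting z p
  /-- The model of the normaliser. -/
  M : NModel z
  eqV : M.V = V₁ S
  /-- The label of the classes over fixed-point-free involutions. -/
  o : Bool
  fus : Fus M o
  inputs : J4Five.Inputs z
  cardG : Nat.card G = 86775571046077562880
  five_norm : ∀ x : G, orderOf x = 5 →
    Nat.card ↥(Subgroup.normalizer ((Subgroup.zpowers x : Subgroup G) : Set G)) = 26880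
  seven_norm : ∀ x : G, orderOf x = 7 →
    Nat.card ↥(Subgroup.normalizer ((Subgroup.zpowers x : Subgroup G) : Set G)) = 2520

namespace Ctx

variable (C : Ctx z p)

theorem normEq : Subgroup.normalizer (C.M.V : Set G) = N₁ C.S := by rw [C.eqV]

theorem cardN : Nat.card ↥(N₁ C.S) = 501397585920 := C.normEq ▸ J4Coset48.card_normalizer C.M

theorem index : (N₁ C.S).index = 173067389 := by
  have h := Subgroup.card_mul_index (N₁ C.S)
  rw [C.cardN, C.cardG] at h
  omega

theorem card_cosets : Nat.card (G ⧸ N₁ C.S) = 173067389 := C.index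

/-- The cosets off the neighbourhood. -/
def rest (qA qB : G ⧸ N₁ C.S) : Set (G ⧸ N₁ C.S) :=
  {q | q ≠ base C.S ∧ q ∉ norb (N₁ C.S) qA ∧ q ∉ norb (N₁ C.S) qB}

theorem fix_fused (v : G) (hv : IsConj z v) :
    {q : G ⧸ N₁ C.S | v • q = q}.ncard = 52349 := by
  have h := fix_mul (N := N₁ C.S) v
  have hset : {y : G | y ∈ N₁ C.S ∧ IsConj v y} =
      {y : G | y ∈ Subgroup.normalizer (C.M.V : Set G) ∧ IsConj z y} := by
    rw [C.normEq]
    ext y
    exact and_congr_right fun _ => ⟨fun h => hv.trans h, fun h => hv.symm.trans h⟩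
  obtain ⟨g, rfl⟩ := isConj_iff.mp hv
  rw [hset, census_z C.M C.fus, C.cardN, cz_conj, Subgroup.card_map_of_injective (MulAut.conj g).injective,
    C.S.card_cz autFacts] at h
  omega

variable [IsSimpleGroup G] (hG : ¬ IsMulCommutative G) (hJ : Cfsg.IsOfJankoFourTypeAt z)
include hG hJ

theorem conj_other {t y : G} (ht : t ∈ dV C.S bigC) (hy : orderOf y = 2) (hn : ¬ IsConj z y) :
    IsConj t y := by
  have h67 := fun V hV hc => (C.inputs.split V hV hc).1
  have key := fun x hx hxn => conj_second hG hJ C.M h67 C.inputs.second (t := x) hx hxn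
  exact (key t (J4Order.orderOf_two_of_ne ((vv_facts C.S autFacts bigC).2.1 t ht.1) ht.2.1) ht.2.2).symm.trans
    (key y hy hn)

theorem fix_other {t : G} (ht : t ∈ dV C.S bigC) : {q : G ⧸ N₁ C.S | t • q = q}.ncard = 8317 := by
  have h := fix_mul (N := N₁ C.S) t
  have ht2 : orderOf t = 2 :=
    J4Order.orderOf_two_of_ne ((vv_facts C.S autFacts bigC).2.1 t ht.1) ht.2.1
  have hset : {y : G | y ∈ N₁ C.S ∧ IsConj t y} =
      {y : G | y ∈ Subgroup.normalizer (C.M.V : Set G) ∧ orderOf y = 2 ∧ ¬ IsConj z y} := by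
    rw [C.normEq]
    ext y
    refine and_congr_right fun _ => ⟨fun h => ⟨?_, fun hz => ht.2.2 (hz.trans h.symm)⟩,
      fun h => C.conj_other hG hJ ht h.1 h.2⟩
    obtain ⟨g, rfl⟩ := isConj_iff.mp h
    rw [orderOf_conjugate, ht2]
  have hct : Nat.card ↥(cz t) = 1816657920 :=
    card_cz_second t (C.inputs.second t ht2 ht.2.2)
  rw [hset, census_t C.M C.fus, C.cardN, hct] at h
  omega

omit [IsSimpleGroup G] hG hJ in
/-- Counting incidences over all cosets. -/
theorem incidence [Fintype (G ⧸ N₁ C.S)] (X : Set G) (hX : X ⊆ (V₁ C.S : Set G)) {m k : ℕ}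
    (hXc : X.ncard = m) (hk : ∀ v ∈ X, {q : G ⧸ N₁ C.S | v • q = q}.ncard = k) :
    ∑ q : G ⧸ N₁ C.S, {v : G | v ∈ tPart C.S q ∧ v ∈ X}.ncard = m * k := by
  haveI := Fintype.ofFinite G
  have key := Finset.sum_card_bipartiteAbove_eq_sum_card_bipartiteBelow
    (fun (q : G ⧸ N₁ C.S) (v : G) => v • q = q) (s := (Finset.univ : Finset (G ⧸ N₁ C.S)))
    (t := X.toFinset)
  rw [Finset.sum_const_nat (s := X.toFinset) (m := k) (fun v hv => by
    rw [← hk v (Set.mem_toFinset.mp hv), Set.ncard_eq_toFinset_card']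
    congr 1
    ext q
    simp [Finset.mem_bipartiteBelow]), ← Set.ncard_eq_toFinset_card', hXc] at key
  rw [← key]
  refine Finset.sum_congr rfl fun q _ => ?_
  rw [Set.ncard_eq_toFinset_card']
  congr 1
  ext v
  simp only [Set.mem_toFinset, Set.mem_ofPred_eq, Finset.mem_bipartiteAbove]
  exact ⟨fun h => ⟨h.2, h.1.2.2⟩, fun h => ⟨⟨hX h.1, Subgroup.le_normalizer (hX h.1), h.2⟩, h.1⟩⟩

omit [IsSimpleGroup G] hG hJ in
theorem tPart_base : tPart C.S (base C.S) = V₁ C.S :=
  inf_eq_left.mpr fun v hv => ⟨Subgroup.le_normalizer hv, mk_one_smul C.S (Subgroup.le_normalizer hv)⟩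

omit [IsSimpleGroup G] hG hJ in
theorem split_sum [Fintype (G ⧸ N₁ C.S)] {qA qB : G ⧸ N₁ C.S} (H : Neigh C.S qA qB) (f : G ⧸ N₁ C.S → ℕ) {a b : ℕ}
    (hA : ∀ q ∈ norb (N₁ C.S) qA, f q = a) (hB : ∀ q ∈ norb (N₁ C.S) qB, f q = b) :
    ∑ q : G ⧸ N₁ C.S, f q =
      f (base C.S) + 28336 * a + 15180 * b + ∑ q ∈ (C.rest qA qB).toFinset, f q := by
  set A := (norb (N₁ C.S) qA).toFinset with hAdef
  set B := (norb (N₁ C.S) qB).toFinset with hBdef
  have hbA : base C.S ∉ A := fun h => by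
    have h1 := (H.countA _ (Set.mem_toFinset.mp h)).card
    rw [C.tPart_base, (vv_facts C.S autFacts bigC).1] at h1
    norm_num at h1
  have hbB : base C.S ∉ B := fun h => by
    have h1 := (H.countB _ (Set.mem_toFinset.mp h)).card
    rw [C.tPart_base, (vv_facts C.S autFacts bigC).1] at h1
    norm_num at h1
  have hAB : Disjoint A B := Finset.disjoint_left.mpr fun q hq hq' => by
    have h1 := (H.countA _ (Set.mem_toFinset.mp hq)).card
    rw [(H.countB _ (Set.mem_toFinset.mp hq')).card] at h1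
    norm_num at h1
  have hu : (Finset.univ : Finset (G ⧸ N₁ C.S)) = {base C.S} ∪ A ∪ B ∪ (C.rest qA qB).toFinset := by
    ext q
    have hr : q ∈ C.rest qA qB ↔
        q ≠ base C.S ∧ q ∉ norb (N₁ C.S) qA ∧ q ∉ norb (N₁ C.S) qB := Iff.rfl
    simp only [Finset.mem_univ, Finset.mem_union, Finset.mem_singleton, hAdef, hBdef, Set.mem_toFinset,
      hr, true_iff]
    tauto
  rw [hu, Finset.sum_union, Finset.sum_union, Finset.sum_union, Finset.sum_singleton,
    Finset.sum_const_nat (s := A) (fun q hq => hA q (Set.mem_toFinset.mp hq)),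
    Finset.sum_const_nat (s := B) (fun q hq => hB q (Set.mem_toFinset.mp hq))]
  · rw [hAdef, hBdef, ← Set.ncard_eq_toFinset_card', ← Set.ncard_eq_toFinset_card', H.sizeA, H.sizeB]
  · exact Finset.disjoint_singleton_left.mpr hbA
  · rw [Finset.disjoint_union_left]
    exact ⟨Finset.disjoint_singleton_left.mpr hbB, hAB⟩
  · refine Finset.disjoint_left.mpr fun q hq hr => ?_
    obtain ⟨h1, h2, h3⟩ := Set.mem_toFinset.mp hr
    simp only [Finset.mem_union, Finset.mem_singleton, hAdef, hBdef, Set.mem_toFinset] at hq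
    rcases hq with (h | h) | h
    exacts [h1 h, h2 h, h3 h]

omit [IsSimpleGroup G] hG hJ in
theorem rest_card {qA qB : G ⧸ N₁ C.S} (H : Neigh C.S qA qB) : (C.rest qA qB).ncard = restN := by
  letI := Fintype.ofFinite (G ⧸ N₁ C.S)
  have h := C.split_sum H (fun _ => 1) (a := 1) (b := 1) (fun _ _ => rfl) (fun _ _ => rfl)
  rw [Finset.sum_const, Finset.sum_const, Finset.card_univ, ← Nat.card_eq_fintype_card,
    C.card_cosets, ← Set.ncard_eq_toFinset_card'] at h
  simp only [smul_eq_mul, mul_one] at h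
  simp only [restN]
  omega

/-- The incidences with the 276 all lie in the neighbourhood. -/
theorem rest_other {qA qB : G ⧸ N₁ C.S} (H : Neigh C.S qA qB) {q : G ⧸ N₁ C.S}
    (hq : q ∈ C.rest qA qB) {v : G} (hv : v ∈ tPart C.S q) : v ∉ dV C.S bigC := by
  letI := Fintype.ofFinite (G ⧸ N₁ C.S)
  intro hd
  set f := fun q : G ⧸ N₁ C.S => {v : G | v ∈ tPart C.S q ∧ v ∈ dV C.S bigC}.ncard
  have h := C.split_sum H f (a := 36) (b := 84) (fun q hq => (H.countA q hq).other)
    (fun q hq => (H.countB q hq).other)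
  have hb : f (base C.S) = 276 := by
    show Set.ncard _ = _
    rw [C.tPart_base, ← card_dV C.S autFacts Cert2.normConfig (fusedE hG C.S)]
    congr 1
    ext v
    exact ⟨fun h => h.2, fun h => ⟨h.1, h⟩⟩
  rw [C.incidence (dV C.S bigC) (fun v hv => hv.1)
    (card_dV C.S autFacts Cert2.normConfig (fusedE hG C.S)) (fun v hv => C.fix_other hG hJ hv), hb] at h
  have h0 : ∑ q ∈ (C.rest qA qB).toFinset, f q = 0 := by omega
  have := Finset.sum_eq_zero_iff.mp h0 q (Set.mem_toFinset.mpr hq)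
  rw [Set.ncard_eq_zero] at this
  exact Set.eq_empty_iff_forall_notMem.mp this v ⟨hv, hd⟩

/-- The fused incidences off the neighbourhood. -/
theorem rest_sum [Fintype (G ⧸ N₁ C.S)] {qA qB : G ⧸ N₁ C.S} (H : Neigh C.S qA qB) :
    ∑ q ∈ (C.rest qA qB).toFinset, (Nat.card ↥(tPart C.S q) - 1) = restK := by
  set f := fun q : G ⧸ N₁ C.S => {v : G | v ∈ tPart C.S q ∧ v ∈ oV C.S bigC}.ncard
  have hfz : ∀ q, f q = {v : G | v ∈ tPart C.S q ∧ IsConj z v}.ncard := fun q => by
    show Set.ncard _ = _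
    congr 1
    ext v
    exact ⟨fun h => ⟨h.1, h.2.2⟩, fun h => ⟨h.1, h.1.1, h.2⟩⟩
  have h := C.split_sum H f (a := 91) (b := 427) (fun q hq => (hfz q).trans (H.countA q hq).fused)
    (fun q hq => (hfz q).trans (H.countB q hq).fused)
  have hc := (counts C.S autFacts Cert2.normConfig (fusedE hG C.S)).1
  have hb : f (base C.S) = 1771 := by
    show Set.ncard _ = _
    rw [C.tPart_base, ← hc]
    congr 1
    ext v
    exact ⟨fun h => h.2, fun h => ⟨h.1, h⟩⟩
  rw [C.incidence (oV C.S bigC) (fun v hv => hv.1) hc (fun v hv => C.fix_fused v hv.2), hb] at h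
  have heq : ∀ q ∈ (C.rest qA qB).toFinset, f q = Nat.card ↥(tPart C.S q) - 1 := by
    intro q hq
    rw [hfz, ← SetLike.coe_sort_coe, Nat.card_coe_set_eq,
      ← Set.ncard_sdiff_singleton_of_mem (one_mem (tPart C.S q) : (1 : G) ∈ (tPart C.S q : Set G))]
    congr 1
    ext v
    constructor
    · rintro ⟨hv, hz⟩
      exact ⟨hv, fun e => C.S.z_ne_one (isConj_one_left.mp (e ▸ hz))⟩
    · rintro ⟨hv, h1⟩
      refine ⟨hv, ?_⟩
      by_contra hz
      exact C.rest_other hG hJ H (Set.mem_toFinset.mp hq) hv ⟨hv.1, h1, hz⟩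
  rw [Finset.sum_congr rfl heq] at h
  simp only [restK]
  omega

end Ctx

end Cfsg.Agent.Lib.J4Coset48
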