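import Cfsg.Agent.Lib.J4Coset48.Main
import Cfsg.Agent.Lib.J4Five.Rows
import Cfsg.Agent.Lib.J4Seven.Rows
import Cfsg.Agent.Lib.J4Big.RowS5568

/-!
# The coset action on the normaliser of a `2^11`, from the rows below it and the order of the group
-/

set_option autoImplicit false
set_option linter.unusedSectionVars false

namespace Cfsg.Agent.Lib.J4Coset48

open Cfsg Cfsg.Agent.Lib.LargeExtraspecial.Basic Cfsg.Agent.Lib.J4Local Cfsg.Agent.Lib.J4Big
open Cfsg.Agent.Lib.J4Order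

variable {G : Type*} [Group G] [Finite G]

/-- The normaliser of an image under an automorphism. -/
theorem normalizer_map_conj (g : G) (H : Subgroup G) :
    Subgroup.normalizer (H.map (MulAut.conj g).toMonoidHom : Set G) =
      (Subgroup.normalizer (H : Set G)).map (MulAut.conj g).toMonoidHom := by
  ext x
  rw [mem_normalizer_map, mem_map_conj]

/-- Conjugate elements have normalisers of one order. -/
theorem card_norm_conj {x y h : G} (hh : Subgroup.zpowers (h * x * h⁻¹) = Subgroup.zpowers y) :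
    Nat.card ↥(Subgroup.normalizer ((Subgroup.zpowers x : Subgroup G) : Set G)) =
      Nat.card ↥(Subgroup.normalizer ((Subgroup.zpowers y : Subgroup G) : Set G)) := by
  have e : (Subgroup.zpowers x).map (MulAut.conj h).toMonoidHom = Subgroup.zpowers y := by
    rw [MonoidHom.map_zpowers]
    exact hh
  rw [← e, normalizer_map_conj, Subgroup.card_map_of_injective (MulAut.conj h).injective]

/-- Orbits under transport along an automorphism. -/
theorem transport (φ : G ≃* G) (N : Subgroup G) {n : ℕ} (c : Fin n → G ⧸ N)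
    (hc : ∀ q, ∃ i, q ∈ MulAction.orbit ↥N (c i)) :
    ∃ c' : Fin n → G ⧸ N.map φ.toMonoidHom,
      (∀ q, ∃ i, q ∈ MulAction.orbit ↥(N.map φ.toMonoidHom) (c' i)) ∧
      ∀ i, (MulAction.orbit ↥(N.map φ.toMonoidHom) (c' i)).ncard =
        (MulAction.orbit ↥N (c i)).ncard := by
  let e : G ⧸ N → G ⧸ N.map φ.toMonoidHom := Quotient.map' φ fun a b h => by
    rw [QuotientGroup.leftRel_apply] at h ⊢
    exact ⟨a⁻¹ * b, h, by simp⟩
  have hsmul : ∀ (m : G) q, e (m • q) = φ m • e q := fun m q => by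
    obtain ⟨g, rfl⟩ := QuotientGroup.mk_surjective q
    show (QuotientGroup.mk (φ (m * g)) : G ⧸ N.map φ.toMonoidHom) = QuotientGroup.mk (φ m * φ g)
    rw [map_mul]
  have hinj : Function.Injective e := by
    intro a b h
    obtain ⟨x, rfl⟩ := QuotientGroup.mk_surjective a
    obtain ⟨y, rfl⟩ := QuotientGroup.mk_surjective b
    have h' : (φ x)⁻¹ * φ y ∈ N.map φ.toMonoidHom := QuotientGroup.eq.mp h
    obtain ⟨w, hw, hwe⟩ := h'
    refine QuotientGroup.eq.mpr ?_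
    have : φ w = φ (x⁻¹ * y) := by rw [map_mul, map_inv]; exact hwe
    exact φ.injective this ▸ hw
  have himg : ∀ q, MulAction.orbit ↥(N.map φ.toMonoidHom) (e q) = e '' MulAction.orbit ↥N q := by
    intro q
    ext r
    constructor
    · rintro ⟨⟨_, m, hm, rfl⟩, rfl⟩
      exact ⟨m • q, ⟨⟨m, hm⟩, rfl⟩, hsmul m q⟩
    · rintro ⟨_, ⟨⟨m, hm⟩, rfl⟩, rfl⟩
      exact ⟨⟨φ m, m, hm, rfl⟩, (hsmul m q).symm⟩
  refine ⟨fun i => e (c i), fun q => ?_, fun i => by
    rw [himg, Set.ncard_image_of_injective _ hinj]⟩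
  obtain ⟨g, rfl⟩ := QuotientGroup.mk_surjective q
  obtain ⟨i, hi⟩ := hc (QuotientGroup.mk (φ.symm g))
  refine ⟨i, ?_⟩
  rw [himg]
  exact ⟨_, hi, congrArg QuotientGroup.mk (φ.apply_symm_apply g)⟩

variable [IsSimpleGroup G] {z : G}

/-- The data of the count exist. -/
theorem exists_ctx (hG : ¬ IsMulCommutative G) (hJ : Cfsg.IsOfJankoFourTypeAt z)
    (hcard : Nat.card G = 86775571046077562880)
    (h67 : ∀ V : Subgroup G, Cfsg.IsElementaryAbelian 2 V → Nat.card ↥V = 2 ^ 11 →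
      Subgroup.centralizer (V : Set G) ≤ V ∧ ∃ K : Subgroup G,
        K ≤ Subgroup.normalizer (V : Set G) ∧ K ⊓ V = ⊥ ∧
        K ⊔ V = Subgroup.normalizer (V : Set G) ∧ Cfsg.Spor.IsoM24 ↥K)
    (h68 : ∀ V : Subgroup G, Cfsg.IsElementaryAbelian 2 V → Nat.card ↥V = 2 ^ 11 →
      ∃ z' t : G, z' ∈ V ∧ t ∈ V ∧ t ≠ 1 ∧ IsConj z z' ∧ ¬ IsConj z t ∧
      Set.ncard {v : G | ∃ n ∈ Subgroup.normalizer (V : Set G), n * z' * n⁻¹ = v} = 1771 ∧
      Set.ncard {v : G | ∃ n ∈ Subgroup.normalizer (V : Set G), n * t * n⁻¹ = v} = 276 ∧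
      Subgroup.centralizer ({t} : Set G) ≤ Subgroup.normalizer (V : Set G))
    (h69 : ∀ t : G, orderOf t = 2 → ¬ IsConj z t → ∃ V K : Subgroup G,
      V ≤ Subgroup.centralizer ({t} : Set G) ∧ K ≤ Subgroup.centralizer ({t} : Set G) ∧
      Subgroup.centralizer ({t} : Set G) ≤ Subgroup.normalizer (V : Set G) ∧
      Cfsg.IsElementaryAbelian 2 V ∧ Nat.card ↥V = 2 ^ 11 ∧ K ⊓ V = ⊥ ∧
      K ⊔ V = Subgroup.centralizer ({t} : Set G) ∧ Nonempty (↥K ≃* MulAut ↥Cfsg.Spor.M22)) :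
    ∃ p, Nonempty (Ctx z p) := by
  obtain ⟨p, S⟩ := Setting.of_at hJ
  have B := Cert2.normConfig
  obtain ⟨hc, h2, -⟩ := vv_facts S autFacts bigC
  have hVe : Cfsg.IsElementaryAbelian 2 (V₁ S) := ⟨⟨⟨fun a b => Subtype.ext (comm_of_sq h2 a.2 b.2)⟩⟩,
    fun v hv => by rw [pow_two]; exact h2 v hv⟩
  obtain ⟨-, K, -, hKV, hsup, -⟩ := h67 _ hVe hc
  have hE := S.exists_fused hG autFacts
  obtain ⟨M, hMV, h7⟩ := exists_nModel_seven S autFacts Cert2.normConfig Cert2.meetConfig hE hKV hsup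
  obtain ⟨o, F⟩ := M.exists_fus S autFacts Cert2.normConfig hMV h7 hE Cert2.meetConfig
  have hcz : Nat.card ↥(cz z) = 3 * 2 ^ 13 * 887040 := S.card_cz autFacts
  refine ⟨p, ⟨⟨S, M, hMV, o, F, ⟨⟨_, hVe, hc⟩, h67, h68, h69⟩, hcard, fun x hx => ?_, fun x hx => ?_⟩⟩⟩
  · haveI := Fact.mk Nat.prime_five
    obtain ⟨⟨y, hy⟩, hy5⟩ := exists_prime_orderOf_dvd_card' (G := ↥(cz z)) 5 (by rw [hcz]; norm_num)
    rw [Subgroup.orderOf_mk] at hy5
    obtain ⟨h, hh⟩ := J4Five.conj_zpowers_five (by rw [hcard]; norm_num) hx hy5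
    have h' := J4Five.five_of_rows hG z hJ h67 h68 h69 (Subgroup.zpowers y)
      ((Nat.card_zpowers y).trans hy5) (Subgroup.zpowers_le.mpr hy)
    rw [card_norm_conj (J4Five.zpowers_eq_of_five
      ((MulEquiv.orderOf_eq (MulAut.conj h) x).trans hx) hy5 hh), h'.2.2.2]
    norm_num
  · haveI : Fact (Nat.Prime 7) := ⟨by norm_num⟩
    obtain ⟨⟨y, hy⟩, hy7⟩ := exists_prime_orderOf_dvd_card' (G := ↥(cz z)) 7 (by rw [hcz]; norm_num)
    rw [Subgroup.orderOf_mk] at hy7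
    obtain ⟨h, hh⟩ := J4Seven.conj_zpowers_seven (by rw [hcard]; norm_num) hx hy7
    have h' := J4Seven.seven_of_rows hG z hJ h67 h68 h69 (Subgroup.zpowers y)
      ((Nat.card_zpowers y).trans hy7) (Subgroup.zpowers_le.mpr hy)
    have e : Subgroup.zpowers (h * x * h⁻¹) = Subgroup.zpowers y :=
      Subgroup.eq_of_le_of_card_ge (Subgroup.zpowers_le.mpr hh) (by
        rw [Nat.card_zpowers, Nat.card_zpowers, hy7,
          show orderOf (h * x * h⁻¹) = orderOf x from MulEquiv.orderOf_eq (MulAut.conj h) x, hx])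
    rw [card_norm_conj e, h'.2.2.2]
    norm_num

/-- The statement of S5629, given the rows below it and the order of the group. -/
theorem rank_seven_of_rows (hG : ¬ IsMulCommutative G) (z : G) (hJ : Cfsg.IsOfJankoFourTypeAt z)
    (hcard : Nat.card G = 86775571046077562880)
    (h67 : ∀ V : Subgroup G, Cfsg.IsElementaryAbelian 2 V → Nat.card ↥V = 2 ^ 11 →
      Subgroup.centralizer (V : Set G) ≤ V ∧ ∃ K : Subgroup G,
        K ≤ Subgroup.normalizer (V : Set G) ∧ K ⊓ V = ⊥ ∧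
        K ⊔ V = Subgroup.normalizer (V : Set G) ∧ Cfsg.Spor.IsoM24 ↥K)
    (h68 : ∀ V : Subgroup G, Cfsg.IsElementaryAbelian 2 V → Nat.card ↥V = 2 ^ 11 →
      ∃ z' t : G, z' ∈ V ∧ t ∈ V ∧ t ≠ 1 ∧ IsConj z z' ∧ ¬ IsConj z t ∧
      Set.ncard {v : G | ∃ n ∈ Subgroup.normalizer (V : Set G), n * z' * n⁻¹ = v} = 1771 ∧
      Set.ncard {v : G | ∃ n ∈ Subgroup.normalizer (V : Set G), n * t * n⁻¹ = v} = 276 ∧
      Subgroup.centralizer ({t} : Set G) ≤ Subgroup.normalizer (V : Set G))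
    (h69 : ∀ t : G, orderOf t = 2 → ¬ IsConj z t → ∃ V K : Subgroup G,
      V ≤ Subgroup.centralizer ({t} : Set G) ∧ K ≤ Subgroup.centralizer ({t} : Set G) ∧
      Subgroup.centralizer ({t} : Set G) ≤ Subgroup.normalizer (V : Set G) ∧
      Cfsg.IsElementaryAbelian 2 V ∧ Nat.card ↥V = 2 ^ 11 ∧ K ⊓ V = ⊥ ∧
      K ⊔ V = Subgroup.centralizer ({t} : Set G) ∧ Nonempty (↥K ≃* MulAut ↥Cfsg.Spor.M22))
    (V : Subgroup G) (hV : Cfsg.IsElementaryAbelian 2 V) (hVc : Nat.card ↥V = 2 ^ 11) :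
    (Subgroup.normalizer (V : Set G)).index = 173067389 ∧
    ∃ c : Fin 7 → G ⧸ Subgroup.normalizer (V : Set G),
      (∀ i j : Fin 7, i ≠ j → MulAction.orbit ↥(Subgroup.normalizer (V : Set G)) (c i) ≠
        MulAction.orbit ↥(Subgroup.normalizer (V : Set G)) (c j)) ∧
      (∀ q : G ⧸ Subgroup.normalizer (V : Set G),
        ∃ i : Fin 7, q ∈ MulAction.orbit ↥(Subgroup.normalizer (V : Set G)) (c i)) ∧
      (List.ofFn fun i => (MulAction.orbit ↥(Subgroup.normalizer (V : Set G)) (c i)).ncard) =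
        [1, 15180, 28336, 3400320, 32643072, 54405120, 82575360] := by
  obtain ⟨p, ⟨C⟩⟩ := exists_ctx hG hJ hcard h67 h68 h69
  obtain ⟨g, hg⟩ := exists_conj_vv C.S autFacts bigC hV hVc
  have hN : Subgroup.normalizer (V : Set G) = (N₁ C.S).map (MulAut.conj g).toMonoidHom := by
    rw [hg, normalizer_map_conj]
  obtain ⟨c, hcov, hsz⟩ := C.rank_seven hG hJ
  obtain ⟨c', hcov', hsz'⟩ := transport (MulAut.conj g) (N₁ C.S) c hcov
  constructor
  · have h1 := Subgroup.card_mul_index (Subgroup.normalizer (V : Set G))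
    rw [hN, Subgroup.card_map_of_injective (MulAut.conj g).injective, C.cardN, hcard, ← hN] at h1
    omega
  rw [hN]
  have hl : (List.ofFn fun i =>
      (MulAction.orbit ↥((N₁ C.S).map (MulAut.conj g).toMonoidHom) (c' i)).ncard) =
      [1, 15180, 28336, 3400320, 32643072, 54405120, 82575360] := by
    rw [← hsz]
    exact congrArg List.ofFn (funext hsz')
  refine ⟨c', fun i j hij e => hij ?_, hcov', hl⟩
  have hnd := List.nodup_ofFn.mp (hl ▸ (by norm_num :
    [1, 15180, 28336, 3400320, 32643072, 54405120, 82575360].Nodup))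
  exact hnd (congrArg Set.ncard e)

end Cfsg.Agent.Lib.J4Coset48
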