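import Cfsg.Agent.Lib.J4Coset48.Kind
import Cfsg.Agent.Lib.J4Local.RowsG

/-!
# No stabiliser off the neighbourhood has order divisible by 27
-/

set_option autoImplicit false
set_option linter.unusedSectionVars false

namespace Cfsg.Agent.Lib.J4Coset48

open Cfsg Cfsg.Agent.Lib.LargeExtraspecial.Basic Cfsg.Agent.Lib.J4Local Cfsg.Agent.Lib.J4Big
open Cfsg.Agent.Lib.J4Order
open Cfsg.Agent.Lib.J4Big.Cert2 (Uh U0)
open scoped Classical

variable {G : Type*} [Group G] [Finite G] {z p : G}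

namespace Ctx

variable (C : Ctx z p) [IsSimpleGroup G] (hG : ¬ IsMulCommutative G)
  {qA qB : G ⧸ N₁ C.S} (H : Neigh C.S qA qB) {q : G ⧸ N₁ C.S} (hq : q ∈ C.rest qA qB)
include hG H hq

theorem not_twentyseven : ¬ 27 ∣ Nat.card ↥(cstab (N₁ C.S) q) := by
  haveI := Fact.mk Nat.prime_three
  intro h27
  obtain ⟨K, hK⟩ := Sylow.exists_subgroup_card_pow_prime (G := ↥(mSt C.S Uh)) 3 (n := 3)
    (by rw [card_mSt C.S autFacts Cert2.normConfig]; norm_num)
  set R : Subgroup G := K.map (mSt C.S Uh).subtype with hR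
  have hRm : R ≤ mSt C.S Uh := Subgroup.map_subtype_le K
  have hRc : Nat.card ↥R = 3 ^ 3 := by
    rw [hR, Subgroup.card_map_of_injective (Subgroup.subtype_injective _), hK]
  have hRz : R ≤ cz z := fun x hx => ((mem_mSt C.S).mp (hRm hx)).1
  have hRN : R ≤ N₁ C.S := hRm.trans (mSt_le_normalizer C.S autFacts bigC)
  obtain ⟨p', S', hp'⟩ := C.S.exists_mem_three autFacts hRz (hRc.trans (by norm_num))
  have hnz := S'.normalizer_three_le hG autFacts hRz (hRc.trans (by norm_num)) hp'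
  have h81 : ¬ 3 ^ (3 + 1) ∣ Nat.card ↥(N₁ C.S) := by rw [C.cardN]; norm_num
  -- a translate fixed by `R`
  obtain ⟨K', hK'⟩ := Sylow.exists_subgroup_card_pow_prime (G := ↥(cstab (N₁ C.S) q)) 3 (n := 3)
    (by simpa using h27)
  obtain ⟨n, hn, hnR⟩ := conj_sylow h81 hRN
    ((Subgroup.map_subtype_le K').trans inf_le_left) hRc
    (by rw [Subgroup.card_map_of_injective (Subgroup.subtype_injective _), hK'])
  have hq' := C.rest_smul hq (inv_mem hn)
  obtain ⟨g, hg⟩ := QuotientGroup.mk_surjective (n⁻¹ • q)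
  have hfix : ∀ x ∈ R, g⁻¹ * x * g ∈ N₁ C.S := fun x hx => by
    refine (smul_mk x g).mp ?_
    rw [hg]
    have h := (Subgroup.map_subtype_le K' (hnR x hx)).2
    change (n * x * n⁻¹) • q = q at h
    rw [eq_inv_smul_iff, ← mul_smul, ← mul_smul]
    exact h
  set R' := R.map (MulAut.conj g⁻¹).toMonoidHom with hR'
  have hR'N : R' ≤ N₁ C.S := by
    rintro _ ⟨x, hx, rfl⟩
    simpa using hfix x hx
  obtain ⟨m, hm, hmR⟩ := conj_sylow h81 hR'N hRN
    (by rw [hR', Subgroup.card_map_of_injective (MulAut.conj g⁻¹).injective, hRc]) hRc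
  have hc : m * g⁻¹ ∈ cz z := hnz (mem_normalizer_fwd fun x hx => by
    have h := hmR _ ⟨x, hx, rfl⟩
    simpa [mul_assoc] using h)
  have hcq : (QuotientGroup.mk (g * m⁻¹) : G ⧸ N₁ C.S) = n⁻¹ • q := by
    rw [← hg, QuotientGroup.eq]
    simpa using hm
  have hcz : g * m⁻¹ ∈ cz z := by simpa using inv_mem hc
  obtain ⟨h1, h2, h3⟩ := hq'
  exact C.S.z_ne_one (H.rest _ h1 h2 h3 z (z_mem_vv C.S bigC) (hcq ▸ inW_of_cz C.S hcz))

theorem not_twentyseven_img : ¬ 27 ∣ (C.kind q).2 := fun h =>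
  C.not_twentyseven hG H hq (by rw [C.card_stab]; exact h.trans (dvd_mul_left _ _))

end Ctx

end Cfsg.Agent.Lib.J4Coset48
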